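import Groth.Agent.EssEtFrac5.Basic
import Groth.Agent.Hensel.EtaleReduced
import Groth.Agent.Approx.NagataNorm
import Mathlib.RingTheory.Smooth.IntegralClosure
import Mathlib.RingTheory.Flat.EquationalCriterion

/-!
# Normalizations inside essentially étale algebras
-/

set_option autoImplicit false
set_option linter.style.haveILetI false

universe u

open TensorProduct
open scoped nonZeroDivisors

namespace Groth.Agent.NormSemi5

section Idempotent

/-- A surjection from a reduced Artinian ring is cut out by an idempotent. -/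
theorem exists_idempotent_of_surjective {T K : Type u} [CommRing T] [IsArtinianRing T] [IsReduced T] [CommRing K]
    (π : T →+* K) : ∃ ε : T, ε * ε = ε ∧ π ε = 1 ∧ ∀ z, π z = 0 → z * ε = 0 := by
  haveI : IsSemisimpleRing T := IsArtinianRing.isSemisimpleRing_of_isReduced T
  obtain ⟨J, hJ⟩ := exists_isCompl (RingHom.ker π)
  obtain ⟨i, hi, j, hj, hij⟩ := Submodule.mem_sup.1 (hJ.sup_eq_top.ge (Submodule.mem_top (x := (1 : T))))
  have hz : ∀ z ∈ RingHom.ker π, z * j = 0 := fun z hz => by
    have h1 : z * j ∈ RingHom.ker π ⊓ J := ⟨Ideal.mul_mem_right _ _ hz, Ideal.mul_mem_left _ _ hj⟩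
    rw [hJ.inf_eq_bot] at h1
    exact h1
  refine ⟨j, ?_, ?_, hz⟩
  · calc j * j = i * j + j * j := by rw [hz i hi, zero_add]
      _ = (i + j) * j := (add_mul _ _ _).symm
      _ = j := by rw [hij, one_mul]
  · have := congrArg π hij
    rwa [map_add, RingHom.mem_ker.1 hi, zero_add, map_one] at this

/-- An element which is a root modulo an idempotent gives an integral element after cutting by it. -/
theorem isIntegral_mul_idempotent {E T : Type u} [CommRing E] [CommRing T] [Algebra E T] {ε : T} (hε : ε * ε = ε)
    {z : T} {P : Polynomial E} (hP : P.Monic) (hz : Polynomial.aeval z P * ε = 0) : IsIntegral E (z * ε) := by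
  refine ⟨Polynomial.X * P, Polynomial.monic_X.mul hP, ?_⟩
  rw [← Polynomial.aeval_def, map_mul, Polynomial.aeval_X]
  let q := Ideal.Quotient.mkₐ E (Ideal.span ({1 - ε} : Set T))
  have h1 : q (z * ε) = q z := by
    refine Ideal.Quotient.eq.2 (Ideal.mem_span_singleton'.2 ⟨-z, ?_⟩)
    ring
  have h2 : q (Polynomial.aeval (z * ε) P) = q (Polynomial.aeval z P) := by
    rw [← Polynomial.aeval_algHom_apply, ← Polynomial.aeval_algHom_apply, h1]
  obtain ⟨w, hw⟩ := Ideal.mem_span_singleton'.1 (Ideal.Quotient.eq.1 h2)
  have h3 : (Polynomial.aeval (z * ε) P - Polynomial.aeval z P) * ε = 0 := by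
    rw [← hw]; linear_combination (-w) * hε
  linear_combination z * h3 + z * hz

end Idempotent

variable {A E K : Type u} [CommRing A] [CommRing E] [CommRing K] [Algebra A E] [Algebra A K] [Algebra E K]
  [IsScalarTower A E K]

/-- An idempotent cutting out the total fraction ring in the base change of an intermediate ring. -/
theorem exists_tensor_idempotent [IsReduced K] [IsArtinianRing (FractionRing A)]
    (hu : ∀ a : A⁰, IsUnit (algebraMap A K a))
    (hKfin : letI := (IsLocalization.lift (S := FractionRing A) hu).toAlgebra; Module.Finite (FractionRing A) K)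
    {C₀ : Type u} [CommRing C₀] [Algebra A C₀] [Algebra.Etale A C₀] [Algebra C₀ E] [IsScalarTower A C₀ E]
    (T₀ : Submonoid C₀) [IsLocalization T₀ E]
    (L : Subalgebra A K) (hL : ∀ a ∈ A⁰, ∃ y ∈ L, algebraMap A K a * y = 1) :
    ∃ ε : E ⊗[A] L, ε * ε = ε ∧
      Algebra.TensorProduct.lift (Algebra.ofId E K) L.val (fun _ _ => Commute.all _ _) ε = 1 ∧
      ∀ z, Algebra.TensorProduct.lift (Algebra.ofId E K) L.val (fun _ _ => Commute.all _ _) z = 0 → z * ε = 0 := by
  let Φ : E ⊗[A] L →ₐ[E] K :=
    Algebra.TensorProduct.lift (Algebra.ofId E K) L.val (fun _ _ => Commute.all _ _)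
  letI algK : Algebra (FractionRing A) K := (IsLocalization.lift (S := FractionRing A) hu).toAlgebra
  haveI : IsScalarTower A (FractionRing A) K :=
    IsScalarTower.of_algebraMap_eq fun a => (IsLocalization.lift_eq hu a).symm
  haveI := hKfin
  have hu' : ∀ a : A⁰, IsUnit (algebraMap A L a) := fun a => by
    obtain ⟨y, hy, hy'⟩ := hL a a.2
    exact IsUnit.of_mul_eq_one (⟨y, hy⟩ : L) (Subtype.ext hy')
  letI : Algebra (FractionRing A) L := (IsLocalization.lift (S := FractionRing A) hu').toAlgebra
  haveI : IsScalarTower A (FractionRing A) L :=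
    IsScalarTower.of_algebraMap_eq fun a => (IsLocalization.lift_eq hu' a).symm
  haveI : IsArtinianRing L := by
    let ι : L →ₗ[FractionRing A] K :=
      { toFun := fun x => x.1
        map_add' := fun _ _ => rfl
        map_smul' := fun c x => by
          obtain ⟨r, s, rfl⟩ := IsLocalization.exists_mk'_eq A⁰ c
          refine (hu s).mul_left_cancel ?_
          simp only [Algebra.smul_def, RingHom.id_apply, MulMemClass.coe_mul, ← mul_assoc]
          congr 1
          have e1 : algebraMap A L s * algebraMap (FractionRing A) L (IsLocalization.mk' _ r s) = algebraMap A L r := by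
            rw [IsScalarTower.algebraMap_apply A (FractionRing A) L, ← map_mul, mul_comm, IsLocalization.mk'_spec,
              ← IsScalarTower.algebraMap_apply]
          have e2 : algebraMap A K s * algebraMap (FractionRing A) K (IsLocalization.mk' _ r s) = algebraMap A K r := by
            rw [IsScalarTower.algebraMap_apply A (FractionRing A) K, ← map_mul, mul_comm, IsLocalization.mk'_spec,
              ← IsScalarTower.algebraMap_apply]
          exact (congrArg Subtype.val e1).trans e2.symm }
    haveI : Module.Finite (FractionRing A) L := Module.Finite.of_injective ι Subtype.val_injective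
    exact IsArtinianRing.of_finite (FractionRing A) L
  haveI : IsReduced L := isReduced_of_injective L.val Subtype.val_injective
  haveI : Algebra.Etale L (L ⊗[A] C₀) := inferInstance
  haveI : IsReduced (L ⊗[A] C₀) := Hensel.isReduced_of_etale L (L ⊗[A] C₀)
  haveI : Algebra.QuasiFinite A C₀ := inferInstance
  haveI : Module.Finite L (L ⊗[A] C₀) := Module.Finite.of_quasiFinite
  haveI : IsArtinianRing (L ⊗[A] C₀) := IsArtinianRing.of_finite L _
  let g : L ⊗[A] C₀ →ₐ[A] E ⊗[A] L :=
    Algebra.TensorProduct.lift Algebra.TensorProduct.includeRight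
      ((Algebra.TensorProduct.includeLeft (R := A) (S := A) (A := E) (B := L)).comp
        (IsScalarTower.toAlgHom A C₀ E)) fun _ _ => Commute.all _ _
  haveI : IsArtinianRing g.toRingHom.range := (RingHom.rangeRestrict_surjective g.toRingHom).isArtinianRing
  have hg : Function.Surjective g := by
    intro x
    induction x with
    | zero => exact ⟨0, map_zero _⟩
    | add x y hx hy =>
      obtain ⟨a, rfl⟩ := hx
      obtain ⟨b, rfl⟩ := hy
      exact ⟨a + b, map_add _ _ _⟩
    | tmul e l =>
      obtain ⟨c, t, rfl⟩ := IsLocalization.exists_mk'_eq (M := T₀) (S := E) e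
      have hgc : ∀ c : C₀, g ((1 : L) ⊗ₜ c) = algebraMap C₀ E c ⊗ₜ (1 : L) := fun c => by simp [g]
      have htu : IsUnit (g ((1 : L) ⊗ₜ (t : C₀))) := by
        rw [hgc]
        exact (IsLocalization.map_units E t).map
          (Algebra.TensorProduct.includeLeft (R := A) (S := A) (A := E) (B := L))
      let t' : g.toRingHom.range := ⟨g ((1 : L) ⊗ₜ (t : C₀)), _, rfl⟩
      have ht' : IsUnit t' := IsArtinianRing.isUnit_of_mem_nonZeroDivisors
        (mem_nonZeroDivisors_iff_right.2 fun y hy =>
          Subtype.ext (htu.mul_left_eq_zero.1 (congrArg Subtype.val hy)))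
      obtain ⟨⟨u, r, hr⟩, hu''⟩ := ht'.exists_right_inv
      refine ⟨l ⊗ₜ c * r, htu.mul_left_cancel ?_⟩
      have hu3 : g ((1 : L) ⊗ₜ (t : C₀)) * g r = 1 := by
        rw [show g r = u from hr]; exact congrArg Subtype.val hu''
      rw [map_mul, mul_left_comm, hu3, mul_one, hgc,
        Algebra.TensorProduct.tmul_mul_tmul, one_mul, mul_comm, IsLocalization.mk'_spec]
      simp [g]
  obtain ⟨ε, h1, h2, h3⟩ := exists_idempotent_of_surjective (Φ.toRingHom.comp g.toRingHom)
  refine ⟨g ε, by rw [← map_mul, h1], h2, fun z hz => ?_⟩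
  obtain ⟨z, rfl⟩ := hg z
  rw [← map_mul, h3 z hz, map_zero]

/-- The integral closure of `E` is flat over the integral closure of `A` in an intermediate ring. -/
theorem flat_integralClosure [IsReduced K] [IsArtinianRing (FractionRing A)]
    (hu : ∀ a : A⁰, IsUnit (algebraMap A K a))
    (hKfin : letI := (IsLocalization.lift (S := FractionRing A) hu).toAlgebra; Module.Finite (FractionRing A) K)
    (hKE : IsLocalization ((A⁰).map (algebraMap A E)) K)
    {C₀ : Type u} [CommRing C₀] [Algebra A C₀] [Algebra.Etale A C₀] [Algebra C₀ E] [IsScalarTower A C₀ E]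
    (T₀ : Submonoid C₀) [IsLocalization T₀ E]
    (L : Subalgebra A K) (hL : ∀ a ∈ A⁰, ∃ y ∈ L, algebraMap A K a * y = 1)
    (C : Subalgebra A K) (hC : C = L ⊓ integralClosure A K)
    (hle : C ≤ (integralClosure E K).restrictScalars A) :
    letI := (Subalgebra.inclusion hle).toRingHom.toAlgebra
    Module.Flat C ((integralClosure E K).restrictScalars A) := by
  classical
  let E' := (integralClosure E K).restrictScalars A
  letI : Algebra C E' := (Subalgebra.inclusion hle).toRingHom.toAlgebra
  haveI : IsScalarTower A C E' := IsScalarTower.of_algebraMap_eq fun a => rfl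
  haveI : Module.Flat C₀ E := IsLocalization.flat E T₀
  haveI : Module.Flat A E := Module.Flat.trans A C₀ E
  obtain ⟨ε, hε1, hε2, hε3⟩ := exists_tensor_idempotent (E := E) hu hKfin T₀ L hL
  let Φ : E ⊗[A] L →ₐ[E] K :=
    Algebra.TensorProduct.lift (Algebra.ofId E K) L.val (fun _ _ => Commute.all _ _)
  have hCL : C ≤ L := hC ▸ inf_le_left
  let j : C ⊗[A] E →ₐ[A] E ⊗[A] L :=
    Algebra.TensorProduct.lift ((Algebra.TensorProduct.includeRight).comp (Subalgebra.inclusion hCL))
      (Algebra.TensorProduct.includeLeft (R := A) (S := A) (A := E) (B := L)) fun _ _ => Commute.all _ _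
  have hj : Function.Injective j := by
    have h : ⇑j = (TensorProduct.comm A L E) ∘
        ((Subalgebra.inclusion hCL).toLinearMap.rTensor E) := by
      funext x
      induction x with
      | zero => simp
      | add x y hx hy =>
        rw [map_add, hx, hy]
        simp only [Function.comp_apply, map_add]
      | tmul c e => simp [j]
    rw [h]
    exact (TensorProduct.comm A L E).injective.comp
      (Module.Flat.rTensor_preserves_injective_linearMap _ (Subalgebra.inclusion_injective hCL))
  have hint : ∀ z : E ⊗[A] L, IsIntegral E z → ∃ w, j w = z := by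
    intro z hz
    have hsurj : Function.Surjective (TensorProduct.toIntegralClosure A E L) :=
      (TensorProduct.toIntegralClosure_bijective_of_tower (R := A) (S := C₀) (T := E) (B := L)
        TensorProduct.toIntegralClosure_bijective_of_smooth
        (TensorProduct.toIntegralClosure_bijective_of_isLocalization T₀)).2
    obtain ⟨w, hw⟩ := hsurj ⟨z, hz⟩
    have key : ∀ w : E ⊗[A] integralClosure A L, ∃ w' : C ⊗[A] E,
        j w' = (TensorProduct.toIntegralClosure A E L w : E ⊗[A] L) := by
      intro w
      induction w with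
      | zero => exact ⟨0, by simp⟩
      | add x y hx hy =>
        obtain ⟨a, ha⟩ := hx
        obtain ⟨b, hb⟩ := hy
        exact ⟨a + b, by rw [map_add, ha, hb, map_add]; rfl⟩
      | tmul e l =>
        have hl : (l.1 : K) ∈ C := hC ▸ ⟨l.1.2, l.2.map L.val⟩
        refine ⟨(⟨(l.1 : K), hl⟩ : C) ⊗ₜ e, ?_⟩
        simp [j, TensorProduct.toIntegralClosure]
    obtain ⟨w', hw'⟩ := key w
    exact ⟨w', hw'.trans (congrArg Subtype.val hw)⟩
  let incE : E →ₐ[A] E' :=
    (IsScalarTower.toAlgHom A E K).codRestrict E' fun e => isIntegral_algebraMap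
  let φ : C ⊗[A] E →ₐ[C] E' :=
    Algebra.TensorProduct.lift (Algebra.ofId C E') incE fun _ _ => Commute.all _ _
  have hφ : ∀ w, (φ w : K) = Φ (j w) := by
    intro w
    induction w with
    | zero => simp
    | add x y hx hy => rw [map_add, map_add, map_add, ← hx, ← hy]; rfl
    | tmul c e =>
      simp [φ, j, Φ, incE]
      exact mul_comm _ _
  obtain ⟨εC, hεC⟩ := hint ε ⟨Polynomial.X ^ 2 - Polynomial.X,
    Polynomial.monic_X_pow_sub (n := 2) (Polynomial.degree_X_le.trans_lt (by norm_num)), by
      rw [← Polynomial.aeval_def]; simp [sq, hε1]⟩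
  have hker : ∀ w, φ w = 0 → w * εC = 0 := fun w hw => hj (by
    rw [map_mul, map_zero, hεC]
    refine hε3 _ ?_
    exact (hφ w).symm.trans (congrArg Subtype.val hw))
  have hεφ : φ εC = 1 := Subtype.ext (by rw [hφ, hεC]; exact hε2)
  have hsurj : Function.Surjective φ := by
    intro y
    obtain ⟨z, hz⟩ : ∃ z, Φ z = (y : K) := by
      haveI := hKE
      obtain ⟨e, ⟨s, a, ha, rfl⟩, he⟩ := IsLocalization.exists_mk'_eq ((A⁰).map (algebraMap A E)) (y : K)
      obtain ⟨v, hv, hv'⟩ := hL a ha
      refine ⟨e ⊗ₜ ⟨v, hv⟩, ?_⟩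
      rw [← he, eq_comm, IsLocalization.mk'_eq_iff_eq_mul]
      simp only [Φ, Algebra.TensorProduct.lift_tmul, Algebra.ofId_apply, Subalgebra.coe_val]
      rw [← IsScalarTower.algebraMap_apply A E K, mul_assoc, mul_comm v, hv', mul_one]
    have hy : IsIntegral E (y : K) := y.2
    obtain ⟨P, hP, hP0⟩ := hy
    have hPz : Φ (Polynomial.aeval z P) = 0 := by
      rw [← Polynomial.aeval_algHom_apply, hz]; exact hP0
    obtain ⟨w, hw⟩ := hint _ (isIntegral_mul_idempotent hε1 hP (hε3 _ hPz))
    refine ⟨w, Subtype.ext ?_⟩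
    rw [hφ, hw, map_mul, hz]
    exact (congrArg ((y : K) * ·) hε2).trans (mul_one _)
  choose pre hpre using hsurj
  have hwd : ∀ w w', φ w = φ w' → w * εC = w' * εC := fun w w' h => sub_eq_zero.1 (by
    rw [← sub_mul]
    exact hker _ (by rw [map_sub, h, sub_self]))
  let sec : E' →ₗ[C] C ⊗[A] E :=
    { toFun := fun y => pre y * εC
      map_add' := fun y y' => by
        rw [← add_mul]
        exact hwd _ _ (by rw [hpre, map_add, hpre, hpre])
      map_smul' := fun c y => by
        rw [RingHom.id_apply, ← smul_mul_assoc]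
        exact hwd _ _ (by rw [hpre, map_smul, hpre]) }
  exact Module.Flat.of_retract sec φ.toLinearMap (LinearMap.ext fun y => by
    show φ (pre y * εC) = y
    rw [map_mul, hpre, hεφ, mul_one])

/-- The integral closure of a Nagata ring in a reduced Artinian algebra essentially of finite type is finite. -/
theorem finite_integralClosure_artinian {A K : Type u} [CommRing A] [CommRing K] [Algebra A K]
    (hA : CAlg.IsNagata A) [IsReduced K] [IsArtinianRing K] [Algebra.EssFiniteType A K] :
    Module.Finite A (integralClosure A K) := by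
  haveI := hA.1
  haveI : ∀ P : MaximalSpectrum K, Module.Finite A (integralClosure A (K ⧸ P.asIdeal)) := fun P => by
    letI := Ideal.Quotient.field P.asIdeal
    haveI : Algebra.EssFiniteType K (K ⧸ P.asIdeal) := inferInstance
    haveI : Algebra.EssFiniteType A (K ⧸ P.asIdeal) := Algebra.EssFiniteType.comp A K _
    exact Approx.NagataNorm.finite_integralClosure_field hA (K ⧸ P.asIdeal)
  haveI : IsNoetherian A ((P : MaximalSpectrum K) → integralClosure A (K ⧸ P.asIdeal)) :=
    isNoetherian_of_isNoetherianRing_of_finite A _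
  let i : integralClosure A K →ₗ[A] ((P : MaximalSpectrum K) → integralClosure A (K ⧸ P.asIdeal)) :=
    LinearMap.pi fun P => ((Ideal.Quotient.mkₐ A P.asIdeal).comp (integralClosure A K).val).toLinearMap.codRestrict
      (integralClosure A (K ⧸ P.asIdeal)).toSubmodule fun z => z.2.map (Ideal.Quotient.mkₐ A P.asIdeal)
  refine Module.Finite.of_injective i fun a b h => Subtype.ext (sub_eq_zero.mp (IsNilpotent.eq_zero ?_))
  refine (nilpotent_iff_mem_prime).2 fun J hJ => ?_
  have := congrArg Subtype.val (congrFun h ⟨J, IsArtinianRing.isMaximal_of_isPrime J⟩)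
  exact (Ideal.Quotient.mk_eq_mk_iff_sub_mem _ _).mp this

/-- The flatness criterion for one relation, with a coefficient outside a contracted prime. -/
theorem exists_relation_of_flat {C E' : Type u} [CommRing C] [CommRing E'] [Algebra C E'] [Module.Flat C E']
    (M : Ideal E') [M.IsPrime] (a c : C) (x : E') (h : algebraMap C E' c = algebraMap C E' a * x) :
    ∃ s t : C, s ∉ M.comap (algebraMap C E') ∧ s * c + a * t = 0 := by
  let f : Fin 2 → C := ![c, a]
  let v : Fin 2 → E' := ![1, -x]
  have hrel : ∑ i, f i • v i = 0 := by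
    simp [f, v, Fin.sum_univ_two, Algebra.smul_def, h]
  obtain ⟨k, b, y, hy, hb⟩ :=
    Module.Flat.isTrivialRelation_of_sum_smul_eq_zero (R := C) (M := E') (f := f) (x := v) hrel
  have h1 : (1 : E') = ∑ j, algebraMap C E' (b 0 j) * y j := by
    simpa [v, Algebra.smul_def] using hy 0
  obtain ⟨j, hj⟩ : ∃ j, b 0 j ∉ M.comap (algebraMap C E') := by
    by_contra! hall
    exact (Ideal.IsPrime.ne_top ‹_›) ((Ideal.eq_top_iff_one M).2 (h1 ▸ Ideal.sum_mem _ fun j _ =>
      Ideal.mul_mem_right _ _ (hall j)))
  refine ⟨b 0 j, b 1 j, hj, ?_⟩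
  have h2 := hb j
  simp only [Fin.sum_univ_two, f, Matrix.cons_val_zero, Matrix.cons_val_one] at h2
  linear_combination h2

/-- With a flat overring the denominators of an element can be chosen away from a contracted prime. -/
theorem exists_mul_mem_of_flat (C : Subalgebra A K) (E' : Subalgebra A K) (hle : C ≤ E')
    (hflat : letI := (Subalgebra.inclusion hle).toRingHom.toAlgebra; Module.Flat C E')
    (M : Ideal E') [M.IsPrime] {x : K} (hxE : x ∈ E') {a : A} (hau : IsUnit (algebraMap A K a))
    (hc : algebraMap A K a * x ∈ C) :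
    ∃ s : C, s ∉ M.comap (Subalgebra.inclusion hle) ∧ (s : K) * x ∈ C := by
  obtain ⟨s, t, hs, hst⟩ := @exists_relation_of_flat C E' _ _ (Subalgebra.inclusion hle).toRingHom.toAlgebra
    hflat M ‹_› (algebraMap A C a) ⟨_, hc⟩ ⟨x, hxE⟩ (Subtype.ext rfl)
  refine ⟨s, hs, ?_⟩
  have h2 := congrArg (fun z : C => (z : K)) hst
  simp only [AddMemClass.coe_add, MulMemClass.coe_mul, ZeroMemClass.coe_zero, Subalgebra.coe_algebraMap] at h2
  have h3 : algebraMap A K a * ((s : K) * x + (t : K)) = 0 := by linear_combination h2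
  rw [eq_neg_of_add_eq_zero_left (hau.mul_right_eq_zero.1 h3)]
  exact C.neg_mem t.2

end Groth.Agent.NormSemi5
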