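import Groth.Agent.NormSemi5.StrictCore
import Groth.Agent.Hensel.IntegralStrict
import Mathlib.RingTheory.LocalRing.Module

/-!
# Henselizations of intermediate rings as unions of essentially étale algebras
-/

set_option autoImplicit false
set_option linter.style.haveILetI false
set_option maxHeartbeats 1000000
set_option synthInstance.maxHeartbeats 100000
set_option backward.isDefEq.respectTransparency false
set_option backward.isDefEq.respectTransparency.types false

universe u

open IsLocalRing Polynomial Groth.Agent.Hensel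
open scoped TensorProduct

namespace Groth.Agent.NormSemi5

variable (A S : Type u) [CommRing A] [IsLocalRing A] [CommRing S] [IsLocalRing S] [Algebra A S]
  [IsLocalHom (algebraMap A S)] [Hensel.IsStrictHenselization A S]

/-- If the image of the henselization is a union of essentially étale algebras, then `D → S` is faithfully flat. -/
theorem faithfullyFlat_of_indEssEt (D : Subalgebra A S) [IsLocalRing D] [IsLocalHom (algebraMap D S)]
    (Dh : Type u) [CommRing Dh] [IsLocalRing Dh] [Algebra D Dh] [IsLocalHom (algebraMap D Dh)]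
    [Hensel.IsHenselization D Dh] [Algebra Dh S] [IsScalarTower D Dh S]
    (hinj : Function.Injective (algebraMap Dh S))
    (hind : ∀ s : Finset S, (s : Set S) ⊆ Set.range (algebraMap Dh S) →
      ∃ E : Subalgebra A S, (s : Set S) ⊆ (E : Set S) ∧ (E : Set S) ⊆ Set.range (algebraMap Dh S) ∧
        ∃ _ : IsLocalRing E, EGA4loc.IsEssentiallyEtale A E) :
    Module.FaithfullyFlat D S := by
  classical
  haveI : Module.Flat Dh S := flat_of_exists_stage fun s => by
    obtain ⟨E, hsE, hEr, _, hE⟩ := hind (s.image (algebraMap Dh S)) (by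
      rw [Finset.coe_image]
      exact Set.image_subset_range _ _)
    haveI := faithfullyFlat_essEtale A S E hE
    choose g hg using fun e : E => hEr e.2
    let φ : E →+* Dh :=
      { toFun := g
        map_one' := hinj (by rw [hg, map_one]; rfl)
        map_mul' := fun x y => hinj (by rw [hg, map_mul, hg, hg]; rfl)
        map_zero' := hinj (by rw [hg, map_zero]; rfl)
        map_add' := fun x y => hinj (by rw [hg, map_add, hg, hg]; rfl) }
    refine ⟨E, inferInstance, inferInstance, φ, hg, fun x hx => ?_, inferInstance⟩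
    exact ⟨⟨algebraMap Dh S x, hsE (Finset.mem_coe.2 (Finset.mem_image_of_mem _ hx))⟩, hinj (hg _)⟩
  haveI : Module.FaithfullyFlat D Dh := Hensel.faithfullyFlat_of_isHenselization D Dh
  haveI : Module.Flat D S := Module.Flat.trans D Dh S
  exact Module.FaithfullyFlat.of_flat_of_isLocalHom

/-- The strict henselization is flat over the henselization of an intermediate ring over which it is flat. -/
theorem flat_henselization (D : Subalgebra A S) [IsLocalRing D] [IsLocalHom (algebraMap D S)]
    [Module.Flat D S]
    (Dh : Type u) [CommRing Dh] [IsLocalRing Dh] [Algebra D Dh] [IsLocalHom (algebraMap D Dh)]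
    [Hensel.IsHenselization D Dh] [Algebra Dh S] [IsScalarTower D Dh S] :
    Module.Flat Dh S := by
  classical
  obtain ⟨e⟩ := Hensel.exists_algEquiv_localHenz D Dh
  refine flat_of_exists_stage fun s => ?_
  obtain ⟨N, -, hN⟩ := Henz.exists_of_finset (R := D) (K := ResidueField D) (Classical.arbitrary _) (s.image e.symm)
  let φ : N.Stage →ₐ[D] Dh := e.toAlgHom.comp (Henz.of N)
  letI : Algebra N.Stage S := ((algebraMap Dh S).comp φ.toRingHom).toAlgebra
  haveI : IsScalarTower D N.Stage S := IsScalarTower.of_algebraMap_eq fun d => by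
    show _ = algebraMap Dh S (φ (algebraMap D N.Stage d))
    rw [φ.commutes, ← IsScalarTower.algebraMap_apply]
  haveI : Algebra.FormallyUnramified N.B N.Stage := Algebra.FormallyUnramified.of_isLocalization N.S
  haveI : Algebra.FormallyUnramified D N.Stage := Algebra.FormallyUnramified.comp D N.B N.Stage
  haveI : Algebra.EssFiniteType N.B N.Stage := Algebra.EssFiniteType.of_isLocalization N.Stage N.S
  haveI : Algebra.EssFiniteType D N.Stage := Algebra.EssFiniteType.comp D N.B N.Stage
  refine ⟨N.Stage, inferInstance, inferInstance, φ.toRingHom, fun r => rfl, fun x hx => ?_,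
    Algebra.FormallyUnramified.flat_of_restrictScalars D N.Stage S⟩
  obtain ⟨y, hy⟩ := hN _ (Finset.mem_image_of_mem _ hx)
  exact ⟨y, by show e (Henz.of N y) = x; rw [hy, AlgEquiv.apply_symm_apply]⟩

/-- A henselization over which the strict henselization is faithfully flat is generated by the unramified part. -/
theorem exists_henz_eq (Dh : Type u) [CommRing Dh] [HenselianLocalRing Dh] [Algebra A Dh] [IsLocalHom (algebraMap A Dh)]
    [Algebra Dh S] [IsScalarTower A Dh S] [IsLocalHom (algebraMap Dh S)] [Module.FaithfullyFlat Dh S]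
    [Algebra.IsSeparable (ResidueField A) (ResidueField Dh)]
    (gB : Henz A (ResidueField Dh) →ₐ[A] Dh) (hgB : ∀ z, residue Dh (gB z) = Henz.proj A (ResidueField Dh) z)
    (h : Dh) : ∃ c, gB c = h := by
  classical
  let κ := ResidueField Dh
  let B := Henz A κ
  haveI : HenselianLocalRing S := Hensel.IsStrictHenselization.henselian A
  let θ : B →ₐ[A] S := (IsScalarTower.toAlgHom A Dh S).comp gB
  let π : B →+* κ := (Henz.proj A κ).toRingHom
  have hπsurj : Function.Surjective π := Hensel.proj_surjective_of_isSeparable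
  have hθres : ∀ c, residue S (θ c) = algebraMap κ (ResidueField S) (π c) := fun c => by
    show residue S (algebraMap Dh S (gB c)) = algebraMap κ (ResidueField S) (Henz.proj A κ c)
    rw [← hgB]
    rfl
  obtain ⟨E, hTE, _, hE, -⟩ := EssEtFrac5.exists_essEtale_containing (A := A) S {algebraMap Dh S h}
  haveI : IsLocalHom (algebraMap A E) := EssEtLib.isLocalHom_algebraMap hE
  haveI := EtAlg7.formallyUnramified hE
  haveI := EtAlg7.essFiniteType hE
  haveI : IsLocalHom (algebraMap E S) := EtAlg7.isLocalHom_algHom hE E.val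
  let pb := Field.powerBasisOfFiniteOfSeparable (ResidueField A) (ResidueField E)
  let jE := algebraMap (ResidueField E) (ResidueField S)
  let ϑ : ResidueField S := jE pb.gen
  haveI := (Hensel.IsStrictHenselization.isSepClosure (R := A) (S := S)).separable
  haveI : Algebra.IsSeparable κ (ResidueField S) := Algebra.isSeparable_tower_top_of_isSeparable (ResidueField A) κ (ResidueField S)
  have hϑint : IsIntegral κ ϑ := Algebra.IsSeparable.isIntegral κ ϑ
  let Pb := minpoly κ ϑ
  obtain ⟨P, hP, hPdeg, hPm⟩ := lifts_and_natDegree_eq_and_monic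
    (f := π) (p := Pb) ((mem_lifts Pb).2 (map_surjective π hπsurj Pb)) (minpoly.monic hϑint)
  -- the lifted root
  have hres_eval : ∀ (p : B[X]) (x : S), residue S (eval₂ θ.toRingHom x p) =
      aeval (residue S x) (p.map π) := fun p x => by
    rw [aeval_def, eval₂_map, hom_eval₂]
    congr 1
    exact RingHom.ext hθres
  obtain ⟨s₀, hs₀⟩ := residue_surjective ϑ
  have hroot : residue S ((P.map θ.toRingHom).eval s₀) = 0 := by
    rw [eval_map, hres_eval, hs₀, hP]
    exact minpoly.aeval κ ϑ
  obtain ⟨θ₁, hθ₁, hθ₁₀⟩ := HenselianLocalRing.is_henselian (P.map θ.toRingHom) (hPm.map _) s₀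
    ((residue_eq_zero_iff _).1 hroot) (by
      rw [← residue_ne_zero_iff_isUnit, derivative_map, eval_map, hres_eval, hs₀, ← derivative_map, hP]
      exact (Algebra.IsSeparable.isSeparable κ ϑ).aeval_derivative_ne_zero (minpoly.aeval κ ϑ))
  have hθ₁ϑ : residue S θ₁ = ϑ := by
    rw [← hs₀, ← sub_eq_zero, ← map_sub, residue_eq_zero_iff]
    exact hθ₁₀
  have hθ₁' : eval₂ θ.toRingHom θ₁ P = 0 := by rw [← eval_map]; exact hθ₁
  -- the finite étale cover
  let F := AdjoinRoot P
  haveI : Module.Finite B F := hPm.finite_adjoinRoot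
  let φ : F →+* S := AdjoinRoot.lift θ.toRingHom θ₁ hθ₁'
  have hφmk : ∀ p : B[X], φ (AdjoinRoot.mk P p) = eval₂ θ.toRingHom θ₁ p := fun p => AdjoinRoot.lift_mk hθ₁' p
  have hFunit : ∀ f : F, residue S (φ f) ≠ 0 → IsUnit f := by
    intro f
    induction f using AdjoinRoot.induction_on with
    | ih p =>
      intro hp
      rw [hφmk, hres_eval, hθ₁ϑ] at hp
      have hnd : ¬ Pb ∣ p.map π := fun hd => hp (aeval_eq_zero_of_dvd_aeval_eq_zero hd (minpoly.aeval κ ϑ))
      obtain ⟨ub, vb, huv⟩ := ((minpoly.irreducible hϑint).coprime_iff_not_dvd.2 hnd).symm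
      obtain ⟨uu, rfl⟩ := map_surjective π hπsurj ub
      obtain ⟨vv, rfl⟩ := map_surjective π hπsurj vb
      have hmem : uu * p + vv * P - 1 ∈ (maximalIdeal B).map (C : B →+* B[X]) := by
        rw [Ideal.mem_map_C_iff]
        intro n
        rw [Hensel.maximalIdeal_henz, RingHom.mem_ker]
        show π ((uu * p + vv * P - 1).coeff n) = 0
        rw [← coeff_map, Polynomial.map_sub, Polynomial.map_add, Polynomial.map_mul, Polynomial.map_mul,
          Polynomial.map_one, hP, huv, sub_self, coeff_zero]
      have hmem2 : AdjoinRoot.mk P uu * AdjoinRoot.mk P p - 1 ∈ (maximalIdeal B).map (algebraMap B F) := by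
        have := Ideal.mem_map_of_mem (AdjoinRoot.mk P) hmem
        rw [Ideal.map_map, map_sub, map_add, map_mul, map_mul, AdjoinRoot.mk_self, mul_zero, add_zero,
          map_one] at this
        exact this
      by_contra hnu
      obtain ⟨Q, hQ, hQm⟩ := exists_max_ideal_of_mem_nonunits hnu
      haveI : Algebra.IsIntegral B F := Algebra.IsIntegral.of_finite B F
      haveI := hQ
      have hle : (maximalIdeal B).map (algebraMap B F) ≤ Q := Ideal.map_le_iff_le_comap.2
        (eq_maximalIdeal (Ideal.isMaximal_comap_of_isIntegral_of_isMaximal (R := B) Q)).ge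
      exact hQ.ne_top ((Ideal.eq_top_iff_one _).2 (by
        simpa using sub_mem (Q.mul_mem_left (AdjoinRoot.mk P uu) hQm) (hle hmem2)))
  have hφunit : ∀ f : F, IsUnit f ↔ residue S (φ f) ≠ 0 := fun f =>
    ⟨fun hf => ((hf.map φ).map (residue S)).ne_zero, hFunit f⟩
  haveI : Nontrivial F := φ.domain_nontrivial
  haveI : IsLocalRing F := IsLocalRing.of_nonunits_add fun a b ha hb => by
    simp only [mem_nonunits_iff, hφunit, not_not, map_add] at ha hb ⊢
    rw [ha, hb, add_zero]
  haveI : IsLocalHom φ := ⟨fun f hf => hFunit f (hf.map (residue S)).ne_zero⟩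
  haveI : Algebra.IsIntegral B F := Algebra.IsIntegral.of_finite B F
  haveI : HenselianLocalRing F := Hensel.henselianLocalRing_of_isIntegral_local B F
  have hφA : ∀ a : A, φ (algebraMap A F a) = algebraMap A S a := fun a => by
    rw [IsScalarTower.algebraMap_apply A B F, AdjoinRoot.algebraMap_eq]
    show φ (AdjoinRoot.of P (algebraMap A B a)) = _
    rw [AdjoinRoot.lift_of]
    exact θ.commutes a
  let φA : F →ₐ[A] S := { φ with commutes' := hφA }
  haveI : IsLocalHom (algebraMap A F) := ⟨fun a ha => by
    have h := ha.map φ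
    rw [hφA] at h
    exact (isUnit_map_iff (algebraMap A S) a).1 h⟩
  -- lift `E` into the cover
  have hlift : ∀ r : ResidueField E, ∃ x : ResidueField F, ResidueField.map φ x = jE r := by
    intro r
    obtain ⟨Pk, hPk⟩ := pb.exists_eq_aeval' r
    obtain ⟨PA, rfl⟩ := map_surjective (residue A) residue_surjective Pk
    refine ⟨residue F (aeval (AdjoinRoot.root P) PA), ?_⟩
    rw [ResidueField.map_residue, hPk]
    show residue S (φA (aeval (AdjoinRoot.root P) PA)) = jE _
    rw [← aeval_algHom_apply, show φA (AdjoinRoot.root P) = θ₁ from AdjoinRoot.lift_root hθ₁',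
      ← ResidueField.algebraMap_eq, show residue A = algebraMap A (ResidueField A) from rfl, aeval_map_algebraMap]
    show IsScalarTower.toAlgHom A S (ResidueField S) _ = IsScalarTower.toAlgHom A (ResidueField E) (ResidueField S) _
    rw [← aeval_algHom_apply, ← aeval_algHom_apply,
      show IsScalarTower.toAlgHom A S (ResidueField S) θ₁ = ϑ from hθ₁ϑ]
    rfl
  choose al hal using hlift
  have hjF : Function.Injective (ResidueField.map φ) := RingHom.injective _
  let α : ResidueField E →+* ResidueField F :=
    { toFun := al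
      map_one' := hjF (by rw [hal, map_one, map_one])
      map_mul' := fun x y => hjF (by rw [hal, map_mul, map_mul, hal, hal])
      map_zero' := hjF (by rw [hal, map_zero, map_zero])
      map_add' := fun x y => hjF (by rw [hal, map_add, map_add, hal, hal]) }
  obtain ⟨ψ, hψ, -⟩ := EtAlg7.existsUnique_algHom hE α (fun a => hjF (by
    show ResidueField.map φ (al _) = _
    rw [hal, ResidueField.map_residue, hφA]
    show algebraMap (ResidueField E) (ResidueField S) (residue E (algebraMap A E a)) = _
    rfl))
  have hcomp : φA.comp ψ = E.val := EtAlg7.algHom_ext_residue hE _ _ fun x => by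
    show residue S (φ (ψ x)) = residue S (x : S)
    rw [← ResidueField.map_residue φ, hψ]
    show ResidueField.map φ (al _) = _
    rw [hal]
    rfl
  let hE0 : E := ⟨algebraMap Dh S h, hTE _ (Finset.mem_singleton_self _)⟩
  have hh : φ (ψ hE0) = algebraMap Dh S h := congr($hcomp hE0)
  obtain ⟨p, hp⟩ := AdjoinRoot.mk_surjective (ψ hE0)
  let p' := p %ₘ P
  have hp' : φ (AdjoinRoot.mk P p') = algebraMap Dh S h := by
    rw [show AdjoinRoot.mk P p' = AdjoinRoot.mk P p from ?_, hp, hh]
    conv_rhs => rw [← modByMonic_add_div p P]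
    rw [map_add, map_mul, AdjoinRoot.mk_self, zero_mul, add_zero]
  let n := (minpoly κ ϑ).natDegree
  have hn : 0 < n := minpoly.natDegree_pos hϑint
  have hdeg : p'.natDegree < n := by
    show _ < Pb.natDegree
    rw [← hPdeg]
    refine natDegree_modByMonic_lt _ hPm fun h1 => ?_
    rw [h1, natDegree_one] at hPdeg
    exact hn.ne hPdeg
  have hind : LinearIndependent Dh fun i : Fin n => θ₁ ^ (i : ℕ) := by
    haveI : Module.Flat Dh S := inferInstance
    refine linearIndependent_equiv (Equiv.ulift.{u, 0} (α := Fin n)) |>.1 ?_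
    refine Module.IsLocalRing.linearIndependent_of_flat _ ?_
    refine LinearIndependent.of_comp
      (LinearMap.liftBaseChange κ (IsScalarTower.toAlgHom Dh S (ResidueField S)).toLinearMap) ?_
    have h1 := (linearIndependent_equiv (Equiv.ulift.{u, 0} (α := Fin n))).2 (linearIndependent_pow (K := κ) ϑ)
    convert h1 using 1
    all_goals first
      | rfl
      | (funext i; simp [← hθ₁ϑ]; erw [LinearMap.liftBaseChange_one_tmul]; exact map_pow (residue S) θ₁ _)
  let coef : Fin n → Dh := fun i => gB (p'.coeff i) - (if (i : ℕ) = 0 then h else 0)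
  have hsum : ∑ i, coef i • θ₁ ^ (i : ℕ) = 0 := by
    simp only [coef, sub_smul, Finset.sum_sub_distrib, sub_eq_zero]
    rw [Finset.sum_eq_single (f := fun i : Fin n => (if (i : ℕ) = 0 then h else 0) • θ₁ ^ (i : ℕ)) (⟨0, hn⟩ : Fin n)
      (fun i _ hi => by simp [show (i : ℕ) ≠ 0 from fun h0 => hi (Fin.ext h0)]) (by simp)]
    simp only [if_true, pow_zero, Algebra.smul_def, mul_one]
    rw [← hp', hφmk, eval₂_eq_sum_range' θ.toRingHom hdeg θ₁, ← Fin.sum_univ_eq_sum_range]
    rfl
  have h0 := Fintype.linearIndependent_iff.1 hind coef hsum ⟨0, hn⟩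
  exact ⟨p'.coeff 0, sub_eq_zero.1 (by simpa [coef] using h0)⟩

/-- If `D → S` is faithfully flat then the henselization of `D` is a union of essentially étale algebras in `S`. -/
theorem indEssEt_of_faithfullyFlat (D : Subalgebra A S) [IsLocalRing D] [IsLocalHom (algebraMap D S)]
    [Module.FaithfullyFlat D S]
    (Dh : Type u) [CommRing Dh] [IsLocalRing Dh] [Algebra D Dh] [IsLocalHom (algebraMap D Dh)]
    [Hensel.IsHenselization D Dh] [Algebra Dh S] [IsScalarTower D Dh S] :
    Function.Injective (algebraMap Dh S) ∧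
      ∀ s : Finset S, (s : Set S) ⊆ Set.range (algebraMap Dh S) →
        ∃ E : Subalgebra A S, (s : Set S) ⊆ (E : Set S) ∧ (E : Set S) ⊆ Set.range (algebraMap Dh S) ∧
          ∃ _ : IsLocalRing E, EGA4loc.IsEssentiallyEtale A E := by
  classical
  haveI := flat_henselization A S D Dh
  haveI : Module.FaithfullyFlat D Dh := Hensel.faithfullyFlat_of_isHenselization D Dh
  haveI : IsLocalHom (algebraMap Dh S) := by
    refine ((local_hom_TFAE (algebraMap Dh S)).out 0 2).2 ?_
    rw [← Hensel.map_maximalIdeal_of_isHenselization D Dh, Ideal.map_map, ← IsScalarTower.algebraMap_eq]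
    exact ((local_hom_TFAE (algebraMap D S)).out 0 2).1 ‹_›
  haveI : Module.FaithfullyFlat Dh S := Module.FaithfullyFlat.of_flat_of_isLocalHom
  have hinj : Function.Injective (algebraMap Dh S) := FaithfulSMul.algebraMap_injective Dh S
  refine ⟨hinj, fun s hs => ?_⟩
  haveI : HenselianLocalRing Dh := Hensel.IsHenselization.henselian D
  letI : Algebra A Dh := ((algebraMap D Dh).comp (algebraMap A D)).toAlgebra
  haveI : IsScalarTower A Dh S := IsScalarTower.of_algebraMap_eq fun a => by
    show _ = algebraMap Dh S (algebraMap D Dh (algebraMap A D a))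
    rw [← IsScalarTower.algebraMap_apply D Dh S, ← IsScalarTower.algebraMap_apply A D S]
  haveI : IsLocalHom (algebraMap A Dh) := ⟨fun a ha => by
    have h := ha.map (algebraMap Dh S)
    rw [← IsScalarTower.algebraMap_apply] at h
    exact (isUnit_map_iff (algebraMap A S) a).1 h⟩
  haveI := (Hensel.IsStrictHenselization.isSepClosure (R := A) (S := S)).separable
  haveI : Algebra.IsSeparable (ResidueField A) (ResidueField Dh) :=
    Algebra.IsSeparable.of_algHom _ _ (IsScalarTower.toAlgHom (ResidueField A) (ResidueField Dh) (ResidueField S))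
  let κ := ResidueField Dh
  obtain ⟨g, ⟨hg, hgres⟩, -⟩ := Hensel.existsUnique_henz_lift (R := A) (L := κ) Dh (algebraMap A Dh) (RingHom.id κ)
    (RingHom.ext fun a => rfl)
  let gB : Henz A κ →ₐ[A] Dh := { g with commutes' := fun a => congr($hg a) }
  have hpre : ∀ t ∈ s, ∃ c : Henz A κ, algebraMap Dh S (gB c) = t := fun t ht => by
    obtain ⟨h, hh⟩ := hs ht
    obtain ⟨c, hc⟩ := exists_henz_eq A S Dh gB hgres h
    exact ⟨c, by rw [hc, hh]⟩
  choose c hc using hpre
  obtain ⟨N, -, hN⟩ := Henz.exists_of_finset (R := A) (K := κ) (Classical.arbitrary _)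
    (s.attach.image fun t : {x // x ∈ s} => c t.1 t.2)
  let q : Ideal N.B := RingHom.ker N.toK
  haveI : q.IsPrime := RingHom.ker_isPrime _
  have hq : N.S = q.primeCompl := by
    ext b
    exact isUnit_iff_ne_zero
  haveI : IsLocalization q.primeCompl N.Stage := hq ▸ (inferInstanceAs (IsLocalization N.S N.Stage))
  haveI : IsLocalRing N.Stage := IsLocalization.AtPrime.isLocalRing N.Stage q
  have hqA : q.comap (algebraMap A N.B) = maximalIdeal A := by
    ext a
    show N.toK (algebraMap A N.B a) = 0 ↔ _
    rw [AlgHom.commutes]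
    exact Hensel.algebraMap_eq_zero_iff_mem a
  have hEt : EGA4loc.IsEssentiallyEtale A N.Stage :=
    ⟨N.B, inferInstance, inferInstance, q, inferInstance, inferInstance, hqA,
      ⟨(IsLocalization.algEquiv q.primeCompl N.Stage (Localization.AtPrime q)).restrictScalars A⟩⟩
  haveI : IsLocalHom (algebraMap A N.Stage) := EssEtLib.isLocalHom_algebraMap hEt
  let ρ : N.Stage →ₐ[A] S := (IsScalarTower.toAlgHom A Dh S).comp (gB.comp (Henz.of N))
  haveI hρloc : IsLocalHom ρ.toRingHom := EtAlg7.isLocalHom_algHom hEt ρ
  letI : Algebra N.Stage S := ρ.toRingHom.toAlgebra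
  haveI : IsLocalHom (algebraMap N.Stage S) := hρloc
  haveI : IsScalarTower A N.Stage S := IsScalarTower.of_algebraMap_eq fun a => (ρ.commutes a).symm
  haveI : Module.Flat A S := HenselConn.flat_strict A S
  haveI := EtAlg7.formallyUnramified hEt
  haveI := EtAlg7.essFiniteType hEt
  haveI : Module.Flat N.Stage S := Algebra.FormallyUnramified.flat_of_restrictScalars A N.Stage S
  haveI : Module.FaithfullyFlat N.Stage S := Module.FaithfullyFlat.of_flat_of_isLocalHom
  have hρinj : Function.Injective ρ := FaithfulSMul.algebraMap_injective N.Stage S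
  let e : N.Stage ≃ₐ[A] ρ.range := AlgEquiv.ofInjective ρ hρinj
  haveI : IsLocalRing ρ.range := e.toRingEquiv.isLocalRing
  refine ⟨ρ.range, fun t ht => ?_, ?_, inferInstance, ?_⟩
  · obtain ⟨x, hx⟩ := hN _ (Finset.mem_image_of_mem _ (Finset.mem_attach _ ⟨t, ht⟩))
    exact ⟨x, by show algebraMap Dh S (gB (Henz.of N x)) = t; rw [hx, hc]⟩
  · rintro _ ⟨x, rfl⟩
    exact ⟨gB (Henz.of N x), rfl⟩
  · obtain ⟨C, i1, i2, q', i3, h1, h2, ⟨e'⟩⟩ := hEt
    exact ⟨C, i1, i2, q', i3, h1, h2, ⟨e.symm.trans e'⟩⟩

end Groth.Agent.NormSemi5
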