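import Groth.Agent.NormSemi5.Basic
import Groth.Agent.S16448
import Groth.Agent.CompleteNagata.Global
import Mathlib.RingTheory.Ideal.MinimalPrime.Noetherian

/-!
# Semilocal normalization forces essential finite type inside essentially étale algebras
-/

set_option autoImplicit false
set_option linter.style.haveILetI false
set_option maxHeartbeats 1000000
set_option backward.isDefEq.respectTransparency false

universe u

open TensorProduct IsLocalRing
open scoped nonZeroDivisors

namespace Groth.Agent.NormSemi5

/-- The finiteness step over a local base carrying the coefficients. -/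
theorem finite_of_local_base {A E K : Type u} [CommRing A] [IsLocalRing A]
    [CommRing E] [Algebra A E] [IsLocalHom (algebraMap A E)] [CommRing K] [Algebra A K] [Algebra E K]
    [IsScalarTower A E K] [IsFractionRing E K]
    (D : Subalgebra A E) [IsLocalHom (algebraMap D E)]
    (G : Type u) [CommRing G] [IsLocalRing G] [IsNoetherianRing G] [Algebra A G] [Algebra G D] [IsScalarTower A G D]
    [Algebra G K] [IsScalarTower G D K] [IsScalarTower A G K]
    (C D' : Subalgebra A K) [Module.Finite A C] (hCD : C ≤ D') (hmem : ∀ d : D, algebraMap D K d ∈ D')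
    (hCint : ∀ x ∈ C, IsIntegral A x)
    (hgood : ∀ x ∈ D', ∃ σ : C, IsUnit (Subalgebra.inclusion hCD σ) ∧ (σ : K) * x ∈ C)
    (σ₀ : C) (y' : K) (hy : (σ₀ : K) * y' = 1) (hyint : IsIntegral G y')
    (hσ₀Q : ∀ Q ∈ (maximalIdeal A).primesOver C, ∀ σ ∈ Q, IsUnit (Subalgebra.inclusion hCD σ) → σ₀ ∈ Q) :
    Module.Finite G D := by
  obtain ⟨gens, hgens⟩ := (Submodule.fg_top (C.toSubmodule)).1 (Module.Finite.fg_top (R := A) (M := C.toSubmodule))
  have hgensC : ∀ c ∈ (gens : Set K), c ∈ C := fun c hc => hgens.le (Submodule.subset_span hc)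
  have hfg : (Algebra.adjoin G (insert y' (gens : Set K))).toSubmodule.FG :=
    fg_adjoin_of_finite (R := G) (A := K) (s := insert y' (gens : Set K))
      (Set.Finite.insert _ gens.finite_toSet) (by
        intro z hz
        rcases Set.mem_insert_iff.1 hz with h | h
        · rw [h]; exact hyint
        · exact IsIntegral.tower_top (R := A) (A := G) (B := K) (hCint z (hgensC z h)))
  have hsub : ∀ z ∈ insert y' (gens : Set K), z ∈ Algebra.adjoin G (insert y' (gens : Set K)) :=
    fun z hz => Algebra.subset_adjoin hz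
  revert hfg hsub
  generalize Algebra.adjoin G (insert y' (gens : Set K)) = M₀
  intro hfg hsub
  haveI : Module.Finite G M₀ := Module.Finite.iff_fg.2 hfg
  have hyM : y' ∈ M₀ := hsub _ (Set.mem_insert _ _)
  have hCM : ∀ c ∈ C, c ∈ M₀ := fun c hc => by
    have hc' : c ∈ Submodule.span A (gens : Set K) := hgens.ge hc
    induction hc' using Submodule.span_induction with
    | mem z hz => exact hsub z (Set.mem_insert_of_mem _ hz)
    | zero => exact zero_mem _
    | add z w _ _ hz hw => exact add_mem (hz (hgens.le ‹_›)) (hw (hgens.le ‹_›))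
    | smul a z _ hz =>
      rw [← algebraMap_smul G a z]
      exact M₀.smul_mem (hz (hgens.le ‹_›)) _
  haveI : Algebra.IsIntegral G M₀ := Algebra.IsIntegral.of_finite G M₀
  have hM₀ : ∀ σ : C, IsUnit (Subalgebra.inclusion hCD σ) → IsUnit (⟨(σ : K), hCM _ σ.2⟩ : M₀) := by
    intro σ hσ
    by_contra hn
    obtain ⟨Q, hQ, hσQ⟩ := exists_max_ideal_of_mem_nonunits (a := (⟨(σ : K), hCM _ σ.2⟩ : M₀)) hn
    let fC : C →+* M₀ :=
      { toFun := fun c => ⟨(c : K), hCM _ c.2⟩
        map_one' := rfl
        map_mul' := fun _ _ => rfl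
        map_zero' := rfl
        map_add' := fun _ _ => rfl }
    haveI := hQ
    have hQm : Q.comap (algebraMap G M₀) = maximalIdeal G :=
      eq_maximalIdeal (Ideal.isMaximal_comap_of_isIntegral_of_isMaximal Q)
    have hAq : (maximalIdeal G).comap (algebraMap A G) = maximalIdeal A := by
      refine ((maximalIdeal.isMaximal A).eq_of_le ((maximalIdeal.isMaximal G).isPrime.comap _).ne_top
        fun a ha => ?_).symm
      rw [Ideal.mem_comap, mem_maximalIdeal, mem_nonunits_iff]
      intro hau
      have h2 : IsUnit (algebraMap D E (algebraMap G D (algebraMap A G a))) := (hau.map _).map _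
      rw [← IsScalarTower.algebraMap_apply A G D, ← IsScalarTower.algebraMap_apply A D E] at h2
      exact (mem_maximalIdeal a).1 ha (isUnit_of_map_unit (algebraMap A E) a h2)
    have hover : Q.comap fC ∈ (maximalIdeal A).primesOver C := by
      refine ⟨hQ.isPrime.comap fC, ⟨?_⟩⟩
      rw [← hAq, ← hQm]
      ext a
      have : fC (algebraMap A C a) = algebraMap G M₀ (algebraMap A G a) :=
        Subtype.ext (IsScalarTower.algebraMap_apply A G K a)
      simp only [Ideal.under_def, Ideal.mem_comap, this]
    have h3 : fC σ₀ ∈ Q := hσ₀Q _ hover σ hσQ hσ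
    exact hQ.ne_top (Q.eq_top_of_isUnit_mem h3 (IsUnit.of_mul_eq_one (⟨_, hyM⟩ : M₀) (Subtype.ext hy)))
  have hD'M : ∀ x ∈ D', x ∈ M₀ := fun x hx => by
    obtain ⟨σ, hσ, hσx⟩ := hgood x hx
    obtain ⟨w, hw⟩ := (hM₀ σ hσ).exists_left_inv
    have h1 : (w : K) * (σ : K) = 1 := congrArg Subtype.val hw
    rw [← one_mul x, ← h1, mul_assoc]
    exact mul_mem w.2 (hCM _ hσx)
  let ι : D →ₗ[G] M₀ :=
    ((IsScalarTower.toAlgHom G D K).toLinearMap).codRestrict (Subalgebra.toSubmodule M₀) fun d =>
      hD'M _ (hmem d)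
  haveI : IsNoetherian G M₀ := isNoetherian_of_isNoetherianRing_of_finite G M₀
  exact Module.Finite.of_injective ι fun d d' h =>
    Subtype.ext (IsFractionRing.injective E K (congrArg Subtype.val h))

/-- If finitely many denominators from a finite subalgebra dominate `D'`, then `D` is essentially of finite type. -/
theorem essFiniteType_of_dominated {A E K : Type u} [CommRing A] [IsLocalRing A] [IsNoetherianRing A]
    [CommRing E] [Algebra A E] [IsLocalHom (algebraMap A E)] [CommRing K] [Algebra A K] [Algebra E K]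
    [IsScalarTower A E K] [IsFractionRing E K]
    (D : Subalgebra A E) [IsLocalRing D] [IsLocalHom (algebraMap D E)]
    (C D' : Subalgebra A K) [Module.Finite A C] (hCD : C ≤ D')
    (hint : ∀ x ∈ D', IsIntegral D x) (hmem : ∀ d : D, algebraMap D K d ∈ D')
    (hCint : ∀ x ∈ C, IsIntegral A x)
    (hgood : ∀ x ∈ D', ∃ σ : C, IsUnit (Subalgebra.inclusion hCD σ) ∧ (σ : K) * x ∈ C) :
    Algebra.EssFiniteType A D := by
  classical
  let good : C → Prop := fun σ => IsUnit (Subalgebra.inclusion hCD σ)
  -- a single good element dominating all others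
  haveI : Algebra.QuasiFinite A C := inferInstance
  have hPfin : ((maximalIdeal A).primesOver C).Finite := Algebra.QuasiFinite.finite_primesOver _
  let pick : Ideal C → C := fun Q => if h : ∃ σ ∈ Q, good σ then h.choose else 1
  have hpick : ∀ Q, good (pick Q) := fun Q => by
    simp only [pick]
    split_ifs with h
    · exact h.choose_spec.2
    · show IsUnit _
      rw [map_one]
      exact isUnit_one
  let σ₀ : C := ∏ Q ∈ hPfin.toFinset, pick Q
  have hσ₀ : good σ₀ := by
    show IsUnit _
    rw [map_prod]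
    exact IsUnit.prod_iff.2 fun Q _ => hpick Q
  have hσ₀Q : ∀ Q ∈ (maximalIdeal A).primesOver C, ∀ σ ∈ Q, good σ → σ₀ ∈ Q := fun Q hQ σ hσ hgσ => by
    refine Ideal.mem_of_dvd Q (Finset.dvd_prod_of_mem pick (hPfin.mem_toFinset.2 hQ)) ?_
    have h : ∃ σ ∈ Q, good σ := ⟨σ, hσ, hgσ⟩
    simp only [pick, dif_pos h]
    exact h.choose_spec.1
  obtain ⟨y', hy'⟩ := hσ₀.exists_right_inv
  have hy : (σ₀ : K) * (y' : K) = 1 := congrArg Subtype.val hy'
  obtain ⟨P, hP, hP0⟩ := hint _ y'.2
  -- the finitely generated ring carrying the coefficients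
  let D₀ : Subalgebra A D := Algebra.adjoin A ((P.coeffs : Finset D) : Set D)
  haveI : Algebra.FiniteType A D₀ :=
    D₀.fg_iff_finiteType.1 ⟨P.coeffs, rfl⟩
  haveI : IsNoetherianRing D₀ := Algebra.FiniteType.isNoetherianRing A D₀
  let q₀ : Ideal D₀ := (maximalIdeal D).comap D₀.val
  haveI : q₀.IsPrime := Ideal.IsPrime.comap _
  let G := Localization.AtPrime q₀
  haveI : IsNoetherianRing G := IsLocalization.isNoetherianRing q₀.primeCompl G inferInstance
  have hG : ∀ s : q₀.primeCompl, IsUnit (D₀.val.toRingHom s) := fun s => by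
    by_contra h
    exact s.2 ((mem_maximalIdeal _).2 h)
  letI : Algebra G D := (IsLocalization.lift (S := G) hG).toAlgebra
  have hGD : ∀ d : D₀, algebraMap G D (algebraMap D₀ G d) = (d : D) := fun d => IsLocalization.lift_eq hG d
  haveI : IsScalarTower A G D := IsScalarTower.of_algebraMap_eq fun a => by
    rw [IsScalarTower.algebraMap_apply A D₀ G, hGD]
    rfl
  letI : Algebra G K := ((algebraMap D K).comp (algebraMap G D)).toAlgebra
  haveI : IsScalarTower G D K := IsScalarTower.of_algebraMap_eq fun g => rfl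
  haveI : IsScalarTower A G K := IsScalarTower.of_algebraMap_eq fun a => by
    show _ = algebraMap D K (algebraMap G D (algebraMap A G a))
    rw [← IsScalarTower.algebraMap_apply A G D, ← IsScalarTower.algebraMap_apply A D K]
  have hyint : IsIntegral G (y' : K) := by
    have hlift : P ∈ Polynomial.lifts (algebraMap G D) := by
      rw [Polynomial.lifts_iff_coeff_lifts]
      intro n
      by_cases h : P.coeff n = 0
      · exact ⟨0, by rw [h, map_zero]⟩
      · exact ⟨algebraMap D₀ G ⟨_, Algebra.subset_adjoin (Polynomial.coeff_mem_coeffs h)⟩, hGD _⟩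
    obtain ⟨R, hR, -, hRm⟩ := Polynomial.lifts_and_natDegree_eq_and_monic hlift hP
    refine ⟨R, hRm, ?_⟩
    rw [← hR, Polynomial.eval₂_map] at hP0
    exact hP0
  haveI : Module.Finite G D := finite_of_local_base D G C D' hCD hmem hCint hgood σ₀ y' hy hyint hσ₀Q
  haveI : Algebra.EssFiniteType A G := by
    haveI : Algebra.EssFiniteType D₀ G := Algebra.EssFiniteType.of_isLocalization G q₀.primeCompl
    exact Algebra.EssFiniteType.comp A D₀ G
  haveI : Algebra.FiniteType G D := Module.Finite.finiteType D
  exact Algebra.EssFiniteType.comp A G D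

theorem essFiniteType_of_semilocal
    (A E : Type u) [CommRing A] [IsLocalRing A] [IsReduced A] (hA : EGA4.IsExcellent A)
    [CommRing E] [IsLocalRing E] [Algebra A E] [IsLocalHom (algebraMap A E)]
    (hE : EGA4loc.IsEssentiallyEtale A E)
    (D : Subalgebra A E) [IsLocalRing D] [IsLocalHom (algebraMap D E)]
    (D' : Subalgebra A (FractionRing E))
    (hD' : ∀ x : (FractionRing E), x ∈ D' ↔ (IsIntegral D x ∧
      ∃ a ∈ nonZeroDivisors A, ∃ d ∈ D, algebraMap A (FractionRing E) a * x = algebraMap E (FractionRing E) d))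
    (hle : D' ≤ ((integralClosure E (FractionRing E)).restrictScalars A))
    (hfin : {N : Ideal D' | N.IsMaximal}.Finite)
    (hsurj : ∀ N : Ideal D', N.IsMaximal →
      ∃ M : Ideal ((integralClosure E (FractionRing E)).restrictScalars A), M.IsMaximal ∧ M.comap (Subalgebra.inclusion hle) = N) :
    Algebra.EssFiniteType A D := by
  classical
  haveI : IsNoetherianRing A := hA.1
  have hmin : (minimalPrimes A).Finite := minimalPrimes.finite_of_isNoetherianRing A
  let K := FractionRing E
  obtain ⟨hKE, t, ht⟩ := S16448.result A E hmin hE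
  obtain ⟨C₀, _, _, q, _, _, _, hC₀, -, hl⟩ := EtAlg7.exists_presentation hE
  haveI := EssEtFrac5.isArtinianRing_fractionRing hmin
  haveI : IsReduced C₀ := Hensel.isReduced_of_etale A C₀
  haveI : IsReduced E := isReduced_localizationPreserves q.primeCompl E inferInstance
  haveI : IsReduced K := isReduced_localizationPreserves E⁰ K inferInstance
  have hu : ∀ a : A⁰, IsUnit (algebraMap A K a) := fun a => by
    haveI := hKE
    rw [IsScalarTower.algebraMap_apply A E K]
    exact IsLocalization.map_units K (⟨_, a, a.2, rfl⟩ : (A⁰).map (algebraMap A E))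
  letI : Algebra (FractionRing A) K := (IsLocalization.lift (S := FractionRing A) hu).toAlgebra
  haveI : IsScalarTower A (FractionRing A) K :=
    IsScalarTower.of_algebraMap_eq fun a => (IsLocalization.lift_eq hu a).symm
  haveI hKfin : Module.Finite (FractionRing A) K := by
    refine ⟨⟨t, Submodule.eq_top_iff'.2 fun x => ?_⟩⟩
    obtain ⟨a, ha, hax⟩ := ht x
    have h1 : algebraMap A K a * x ∈ Submodule.span (FractionRing A) (t : Set K) :=
      Submodule.span_le_restrictScalars A (FractionRing A) _ hax
    have h2 : x = (IsLocalization.mk' (FractionRing A) 1 (⟨a, ha⟩ : A⁰)) • (algebraMap A K a * x) := by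
      rw [Algebra.smul_def, IsScalarTower.algebraMap_apply A (FractionRing A) K, ← mul_assoc, ← map_mul,
        IsLocalization.mk'_spec, map_one, map_one, one_mul]
    rw [h2]
    exact Submodule.smul_mem _ _ h1
  haveI : IsArtinianRing K := IsArtinianRing.of_finite (FractionRing A) K
  haveI : Algebra.EssFiniteType A E := by
    haveI : Algebra.EssFiniteType C₀ E := Algebra.EssFiniteType.of_isLocalization E q.primeCompl
    exact Algebra.EssFiniteType.comp A C₀ E
  haveI : Algebra.EssFiniteType A K := by
    haveI : Algebra.EssFiniteType E K := Algebra.EssFiniteType.of_isLocalization K E⁰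
    exact Algebra.EssFiniteType.comp A E K
  -- the elements of `K` with a denominator in `A` and a numerator in `D`
  let L : Subalgebra A K :=
    { carrier := {x | ∃ a ∈ A⁰, ∃ d ∈ D, algebraMap A K a * x = algebraMap E K d}
      mul_mem' := by
        rintro x y ⟨a, ha, d, hd, hx⟩ ⟨b, hb, e, he, hy⟩
        refine ⟨a * b, mul_mem ha hb, d * e, mul_mem hd he, ?_⟩
        rw [map_mul, map_mul, ← hx, ← hy]
        ring
      add_mem' := by
        rintro x y ⟨a, ha, d, hd, hx⟩ ⟨b, hb, e, he, hy⟩
        refine ⟨a * b, mul_mem ha hb, algebraMap A E b * d + algebraMap A E a * e,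
          add_mem (mul_mem (D.algebraMap_mem b) hd) (mul_mem (D.algebraMap_mem a) he), ?_⟩
        rw [map_mul, map_add, map_mul, map_mul, ← hx, ← hy, ← IsScalarTower.algebraMap_apply A E K,
          ← IsScalarTower.algebraMap_apply A E K]
        ring
      algebraMap_mem' := fun a => ⟨1, one_mem _, _, D.algebraMap_mem a, by
        rw [map_one, one_mul, ← IsScalarTower.algebraMap_apply A E K]⟩ }
  have hL : ∀ a ∈ A⁰, ∃ y ∈ L, algebraMap A K a * y = 1 := fun a ha =>
    ⟨↑(hu ⟨a, ha⟩).unit⁻¹, ⟨a, ha, 1, one_mem _, by rw [map_one]; exact (hu ⟨a, ha⟩).mul_val_inv⟩,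
      (hu ⟨a, ha⟩).mul_val_inv⟩
  let C : Subalgebra A K := L ⊓ integralClosure A K
  have hCD : C ≤ D' := fun x hx => (hD' x).2 ⟨IsIntegral.tower_top hx.2, hx.1⟩
  haveI : Module.Finite A C := by
    haveI := finite_integralClosure_artinian (K := K)
      (CompleteNagata.isNagata_of_isQuasiExcellent A ⟨hA.1, hA.2.2.1, hA.2.2.2⟩)
    exact Module.Finite.of_injective
      (Subalgebra.inclusion (S := C) (T := integralClosure A K) fun x hx => hx.2).toLinearMap
      (fun x y h => Subtype.ext (congrArg (fun z : integralClosure A K => (z : K)) h))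
  have hflat := flat_integralClosure hu hKfin hKE q.primeCompl L hL C rfl (hCD.trans hle)
  have hgood : ∀ x ∈ D', ∃ σ : C, IsUnit (Subalgebra.inclusion hCD σ) ∧ (σ : K) * x ∈ C := by
    intro x hx
    obtain ⟨m, hm⟩ := IsIntegral.exists_multiple_integral_of_isLocalization A⁰ x
      (IsIntegral.of_finite (FractionRing A) x)
    have hc : algebraMap A K m * x ∈ C :=
      ⟨mul_mem (L.algebraMap_mem _) ((hD' x).1 hx).2, by
        rw [← Algebra.smul_def]; exact hm⟩
    let I : Ideal C :=
      { carrier := {s | (s : K) * x ∈ C}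
        add_mem' := fun {s s'} hs hs' => by
          show ((s : K) + (s' : K)) * x ∈ C
          rw [add_mul]; exact add_mem hs hs'
        zero_mem' := by show (0 : K) * x ∈ C; rw [zero_mul]; exact zero_mem _
        smul_mem' := fun r s hs => by
          show (r : K) * (s : K) * x ∈ C
          rw [mul_assoc]; exact mul_mem r.2 hs }
    by_contra! hno
    have hsub : (I : Set C) ⊆ ⋃ N ∈ hfin.toFinset,
        ((N.comap (Subalgebra.inclusion hCD) : Ideal C) : Set C) := fun σ hσ => by
      obtain ⟨N, hN, hmem⟩ := exists_max_ideal_of_mem_nonunits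
        (a := Subalgebra.inclusion hCD σ) fun h => hno σ h hσ
      simp only [Set.mem_iUnion]
      exact ⟨N, hfin.mem_toFinset.2 hN, hmem⟩
    obtain ⟨N, hN, hle'⟩ := (Ideal.subset_union_prime ⊤ ⊤ fun N hN _ _ =>
      (hfin.mem_toFinset.1 hN).isPrime.comap _).1 hsub
    obtain ⟨M, hM, hMN⟩ := hsurj N (hfin.mem_toFinset.1 hN)
    obtain ⟨s, hs, hsx⟩ := exists_mul_mem_of_flat C _ (hCD.trans hle) hflat M (hle hx) (hu m) hc
    apply hs
    have : Subalgebra.inclusion hCD s ∈ N := hle' hsx
    rw [← hMN] at this
    exact this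
  exact essFiniteType_of_dominated D C D' hCD (fun x hx => ((hD' x).1 hx).1)
    (fun d => (hD' _).2 ⟨isIntegral_algebraMap, 1, one_mem _, d.1, d.2, by rw [map_one, one_mul]; rfl⟩)
    (fun x hx => IsIntegral.of_finite A (⟨x, hx⟩ : C) |>.map C.val) hgood

end Groth.Agent.NormSemi5
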