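import Groth.Agent.NormSemi5.Basic
import Groth.Agent.S16448
import Mathlib.RingTheory.Flat.FaithfullyFlat.Algebra
import Mathlib.RingTheory.Ideal.MinimalPrime.Noetherian

/-!
# The residual criterion for intermediate rings of an essentially étale local algebra
-/

set_option autoImplicit false
set_option linter.style.haveILetI false
set_option maxHeartbeats 1000000
set_option synthInstance.maxHeartbeats 100000
set_option backward.isDefEq.respectTransparency false
set_option backward.isDefEq.respectTransparency.types false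

universe u

open IsLocalRing TensorProduct
open scoped nonZeroDivisors

namespace Groth.Agent.NormSemi5

variable {A E K : Type u} [CommRing A] [CommRing E] [CommRing K] [Algebra A E] [Algebra A K] [Algebra E K]
  [IsScalarTower A E K]

/-- Scalars can be cleared in the base change of a ring of fractions with denominators in `A`. -/
theorem injective_mul_of_denominators [Module.Flat A E] (hu : ∀ a : A⁰, IsUnit (algebraMap A K a))
    (hEK : Function.Injective (algebraMap E K)) (B : Subalgebra A K)
    (hB : ∀ y ∈ B, ∃ a ∈ A⁰, ∃ r : A, algebraMap A K a * y = algebraMap A K r) :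
    Function.Injective (Algebra.TensorProduct.lift (Algebra.ofId E K) B.val (fun _ _ => Commute.all _ _) :
      E ⊗[A] B →ₐ[E] K) := by
  let μ : E ⊗[A] B →ₐ[E] K := Algebra.TensorProduct.lift (Algebra.ofId E K) B.val (fun _ _ => Commute.all _ _)
  have hclear : ∀ u : E ⊗[A] B, ∃ a ∈ A⁰, ∃ e : E, a • u = e ⊗ₜ (1 : B) := by
    intro u
    induction u with
    | zero => exact ⟨1, one_mem _, 0, by simp⟩
    | add x y hx hy =>
      obtain ⟨a, ha, e, he⟩ := hx
      obtain ⟨b, hb, f, hf⟩ := hy
      refine ⟨a * b, mul_mem ha hb, b • e + a • f, ?_⟩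
      rw [smul_add, add_tmul, ← smul_tmul', ← smul_tmul', ← he, ← hf, mul_smul, mul_smul, smul_comm a b x]
    | tmul e y =>
      obtain ⟨a, ha, r, hr⟩ := hB y y.2
      refine ⟨a, ha, r • e, ?_⟩
      rw [← tmul_smul, ← smul_tmul' r e (1 : B), ← tmul_smul]
      congr 1
      exact Subtype.ext (by simpa [Algebra.smul_def] using hr)
  refine (injective_iff_map_eq_zero μ).2 fun u hu0 => ?_
  obtain ⟨a, ha, e, he⟩ := hclear u
  have he0 : algebraMap E K e = 0 := by
    have h := congrArg μ he
    rw [← algebraMap_smul E a u, map_smul, hu0, smul_zero] at h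
    simpa [μ] using h.symm
  rw [hEK (he0.trans (map_zero _).symm), zero_tmul] at he
  have hinj : Function.Injective ((LinearMap.lsmul A B a).lTensor E) := by
    refine Module.Flat.lTensor_preserves_injective_linearMap _ fun y z h => Subtype.ext ?_
    have h' := congrArg (fun w : B => (w : K)) h
    simp only [LinearMap.lsmul_apply, Subalgebra.coe_smul, Algebra.smul_def] at h'
    exact (hu ⟨a, ha⟩).mul_left_cancel h'
  refine hinj (Eq.trans ?_ (map_zero _).symm)
  have : (LinearMap.lsmul A B a).lTensor E u = a • u := by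
    clear he hu0
    induction u with
    | zero => simp
    | add x y hx hy => rw [map_add, hx, hy, smul_add]
    | tmul e y => rw [LinearMap.lTensor_tmul, LinearMap.lsmul_apply, tmul_smul]
  rw [this, he]

/-- The idempotent cutting out `K` already lives in the base change of a ring containing the integral elements. -/
theorem exists_idempotent_mem [IsReduced K] [IsArtinianRing (FractionRing A)]
    (hu : ∀ a : A⁰, IsUnit (algebraMap A K a))
    (hKfin : letI := (IsLocalization.lift (S := FractionRing A) hu).toAlgebra; Module.Finite (FractionRing A) K)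
    {C₀ : Type u} [CommRing C₀] [Algebra A C₀] [Algebra.Etale A C₀] [Algebra C₀ E] [IsScalarTower A C₀ E]
    (T₀ : Submonoid C₀) [IsLocalization T₀ E]
    (L : Subalgebra A K) (hL : ∀ a ∈ A⁰, ∃ y ∈ L, algebraMap A K a * y = 1)
    (B : Subalgebra A K) (hBL : B ≤ L) (hB : ∀ x ∈ L, IsIntegral A x → x ∈ B) :
    ∃ ε : E ⊗[A] B, ε * ε = ε ∧
      Algebra.TensorProduct.lift (Algebra.ofId E K) B.val (fun _ _ => Commute.all _ _) ε = 1 ∧
      ∀ z, Algebra.TensorProduct.lift (Algebra.ofId E K) B.val (fun _ _ => Commute.all _ _) z = 0 → z * ε = 0 := by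
  obtain ⟨ε, h1, h2, h3⟩ := exists_tensor_idempotent (E := E) hu hKfin T₀ L hL
  haveI : Module.Flat C₀ E := IsLocalization.flat E T₀
  haveI : Module.Flat A E := Module.Flat.trans A C₀ E
  let iB : E ⊗[A] B →ₐ[E] E ⊗[A] L := Algebra.TensorProduct.map (AlgHom.id E E) (Subalgebra.inclusion hBL)
  have hiB : Function.Injective iB := by
    have h : ⇑iB = ⇑((Subalgebra.inclusion hBL).toLinearMap.lTensor E) := by
      funext x
      induction x with
      | zero => simp
      | add x y hx hy => rw [map_add, hx, hy, map_add]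
      | tmul e y => simp [iB]
    rw [h]
    exact Module.Flat.lTensor_preserves_injective_linearMap _ (Subalgebra.inclusion_injective hBL)
  let k : integralClosure A L →ₐ[A] B :=
    (L.val.comp (integralClosure A L).val).codRestrict B fun l => hB _ l.1.2 (l.2.map L.val)
  have hsurj : Function.Surjective (TensorProduct.toIntegralClosure A E L) :=
    (TensorProduct.toIntegralClosure_bijective_of_tower (R := A) (S := C₀) (T := E) (B := L)
      TensorProduct.toIntegralClosure_bijective_of_smooth
      (TensorProduct.toIntegralClosure_bijective_of_isLocalization T₀)).2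
  have hεint : IsIntegral E ε := ⟨Polynomial.X ^ 2 - Polynomial.X,
    Polynomial.monic_X_pow_sub (n := 2) (Polynomial.degree_X_le.trans_lt (by norm_num)), by
      rw [← Polynomial.aeval_def]; simp [sq, h1]⟩
  obtain ⟨w, hw⟩ := hsurj ⟨ε, hεint⟩
  let wB : E ⊗[A] B := Algebra.TensorProduct.map (AlgHom.id E E) k w
  have hwB : iB wB = ε := by
    refine Eq.trans ?_ (congrArg Subtype.val hw)
    simp only [wB]
    clear hw
    induction w with
    | zero => simp
    | add x y hx hy => rw [map_add, map_add, map_add, hx, hy]; rfl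
    | tmul e l =>
      simp [iB, k, TensorProduct.toIntegralClosure]
      rfl
  have hcomp : ∀ z, Algebra.TensorProduct.lift (Algebra.ofId E K) L.val (fun _ _ => Commute.all _ _) (iB z) =
      Algebra.TensorProduct.lift (Algebra.ofId E K) B.val (fun _ _ => Commute.all _ _) z := by
    intro z
    induction z with
    | zero => simp
    | add x y hx hy => rw [map_add, map_add, hx, hy, map_add]
    | tmul e y => simp [iB]
  refine ⟨wB, hiB (by rw [map_mul, hwB, h1]), by rw [← hcomp, hwB, h2], fun z hz => hiB ?_⟩
  rw [map_mul, hwB, map_zero]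
  exact h3 _ (by rw [hcomp, hz])

/-- Standard facts about the total fraction ring of an essentially étale local algebra. -/
theorem fractionRing_setup (A E : Type u) [CommRing A] [IsLocalRing A] [IsReduced A] [IsNoetherianRing A]
    [CommRing E] [IsLocalRing E] [Algebra A E] [IsLocalHom (algebraMap A E)]
    (hE : EGA4loc.IsEssentiallyEtale A E) :
    IsArtinianRing (FractionRing A) ∧ IsReduced (FractionRing E) ∧
      IsLocalization ((A⁰).map (algebraMap A E)) (FractionRing E) ∧
      ∃ hu : ∀ a : A⁰, IsUnit (algebraMap A (FractionRing E) a),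
        letI := (IsLocalization.lift (S := FractionRing A) hu).toAlgebra
        Module.Finite (FractionRing A) (FractionRing E) := by
  have hmin : (minimalPrimes A).Finite := minimalPrimes.finite_of_isNoetherianRing A
  let K := FractionRing E
  obtain ⟨hKE, t, ht⟩ := S16448.result A E hmin hE
  obtain ⟨C₀, _, _, q, _, _, _, hC₀, -, hl⟩ := EtAlg7.exists_presentation hE
  haveI := EssEtFrac5.isArtinianRing_fractionRing hmin
  haveI : IsReduced C₀ := Hensel.isReduced_of_etale A C₀
  haveI : IsReduced E := isReduced_localizationPreserves q.primeCompl E inferInstance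
  haveI : IsReduced K := isReduced_localizationPreserves E⁰ K inferInstance
  have hu : ∀ a : A⁰, IsUnit (algebraMap A K a) := fun a => by
    haveI := hKE
    rw [IsScalarTower.algebraMap_apply A E K]
    exact IsLocalization.map_units K (⟨_, a, a.2, rfl⟩ : (A⁰).map (algebraMap A E))
  refine ⟨inferInstance, inferInstance, hKE, hu, ?_⟩
  letI : Algebra (FractionRing A) K := (IsLocalization.lift (S := FractionRing A) hu).toAlgebra
  haveI : IsScalarTower A (FractionRing A) K :=
    IsScalarTower.of_algebraMap_eq fun a => (IsLocalization.lift_eq hu a).symm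
  refine ⟨⟨t, Submodule.eq_top_iff'.2 fun x => ?_⟩⟩
  obtain ⟨a, ha, hax⟩ := ht x
  have h1 : algebraMap A K a * x ∈ Submodule.span (FractionRing A) (t : Set K) :=
    Submodule.span_le_restrictScalars A (FractionRing A) _ hax
  have h2 : x = (IsLocalization.mk' (FractionRing A) 1 (⟨a, ha⟩ : A⁰)) • (algebraMap A K a * x) := by
    rw [Algebra.smul_def, IsScalarTower.algebraMap_apply A (FractionRing A) K, ← mul_assoc, ← map_mul,
      IsLocalization.mk'_spec, map_one, map_one, one_mul]
  rw [h2]
  exact Submodule.smul_mem _ _ h1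

/-- The residual criterion, for a flat local algebra in whose base change the kernel to `K` is killed by idempotent-like elements. -/
theorem residual_core {A E K : Type u} [CommRing A] [IsLocalRing A]
    [CommRing E] [IsLocalRing E] [Algebra A E] [CommRing K] [Algebra A K] [Algebra E K] [IsScalarTower A E K]
    [Module.Flat A E]
    (hu : ∀ a : A⁰, IsUnit (algebraMap A K a)) (hEK : Function.Injective (algebraMap E K))
    (hm : (maximalIdeal A).map (algebraMap A E) = maximalIdeal E)
    (D : Subalgebra A E) [IsLocalRing D] [IsLocalHom (algebraMap D E)]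
    (A' D' : Subalgebra A K)
    (hA' : ∀ x : K, x ∈ A' ↔ (IsIntegral A x ∧
      ∃ a ∈ nonZeroDivisors A, ∃ b : A, algebraMap A K a * x = algebraMap A K b))
    (hD' : ∀ x : K, x ∈ D' ↔ (IsIntegral D x ∧
      ∃ a ∈ nonZeroDivisors A, ∃ d ∈ D, algebraMap A K a * x = algebraMap E K d))
    (hle : A' ≤ D') (hDE' : D' ≤ (integralClosure E K).restrictScalars A)
    (ι : D →ₐ[A] D') (hι : ∀ d : D, (ι d : K) = algebraMap E K d)
    (hres : Function.Surjective ((Ideal.Quotient.mkₐ A (Ideal.jacobson (⊥ : Ideal D'))).comp
      (Algebra.TensorProduct.productMap (Subalgebra.inclusion hle) ι)))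
    (hkill : ∀ z : E ⊗[A] D', Algebra.TensorProduct.lift (Algebra.ofId E K) D'.val (fun _ _ => Commute.all _ _) z = 0 →
      ∃ ε : E ⊗[A] D', Algebra.TensorProduct.lift (Algebra.ofId E K) D'.val (fun _ _ => Commute.all _ _) ε = 1 ∧
        z * ε = 0) :
    (∀ N : Ideal D', N.IsMaximal → ∃ M : Ideal ((integralClosure E K).restrictScalars A),
        M.IsMaximal ∧ M.comap (Subalgebra.inclusion hDE') = N) ∧
      Module.FaithfullyFlat D E ∧ (maximalIdeal A).map (algebraMap A D) = maximalIdeal D := by
  classical
  let μK : E ⊗[A] D' →ₐ[E] K :=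
    Algebra.TensorProduct.lift (Algebra.ofId E K) D'.val (fun _ _ => Commute.all _ _)
  let μ' : E ⊗[A] D' →+* integralClosure E K :=
    μK.toRingHom.codRestrict (integralClosure E K).toSubring fun t => by
      induction t with
      | zero => simp
      | add x y hx hy => rw [map_add]; exact add_mem hx hy
      | tmul e y =>
        show algebraMap E K e * (y : K) ∈ integralClosure E K
        exact mul_mem (Subalgebra.algebraMap_mem _ _) (hDE' y.2)
  have hμ' : ∀ t, (μ' t : K) = μK t := fun t => rfl
  have hι' : ∀ d : D, D'.val (ι d) = algebraMap E K d := hι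
  let μD : D ⊗[A] E →ₐ[A] E := Algebra.TensorProduct.lift D.val (AlgHom.id A E) fun _ _ => Commute.all _ _
  let ν : D ⊗[A] E →ₐ[A] E ⊗[A] D' :=
    Algebra.TensorProduct.lift ((Algebra.TensorProduct.includeRight).comp ι)
      (Algebra.TensorProduct.includeLeft (R := A) (S := A) (A := E) (B := D')) fun _ _ => Commute.all _ _
  have hμν : ∀ x, μK (ν x) = algebraMap E K (μD x) := by
    intro x
    induction x with
    | zero => simp
    | add x y hx hy => simp only [map_add, hx, hy]
    | tmul d e =>
      simp [μK, ν, μD, mul_comm]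
      exact congrArg (algebraMap E K e * ·) (hι d)
  have hιinj : Function.Injective ι := fun a b h => Subtype.ext (hEK (by
    rw [← hι, ← hι, h]))
  have hνinj : Function.Injective ν := by
    have h : ⇑ν = (TensorProduct.comm A D' E) ∘ (ι.toLinearMap.rTensor E) := by
      funext x
      induction x with
      | zero => simp
      | add x y hx hy =>
        rw [map_add, hx, hy]
        simp only [Function.comp_apply, map_add]
      | tmul d e => simp [ν]
    rw [h]
    exact (TensorProduct.comm A D' E).injective.comp (Module.Flat.rTensor_preserves_injective_linearMap _ hιinj)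
  letI : Algebra (D ⊗[A] E) (E ⊗[A] D') := ν.toRingHom.toAlgebra
  letI : Algebra D D' := ι.toRingHom.toAlgebra
  haveI : IsScalarTower D D' K := IsScalarTower.of_algebraMap_eq fun d => (hι d).symm
  haveI : Algebra.IsIntegral D D' :=
    ⟨fun y => (isIntegral_algHom_iff (IsScalarTower.toAlgHom D D' K) Subtype.val_injective).1 ((hD' y).1 y.2).1⟩
  haveI : Algebra.IsIntegral (D ⊗[A] E) (E ⊗[A] D') := ⟨fun t => by
    induction t with
    | zero => exact isIntegral_zero
    | add x y hx hy => exact hx.add hy
    | tmul e y =>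
      have h1 : (e ⊗ₜ[A] (1 : D')) = algebraMap (D ⊗[A] E) (E ⊗[A] D') ((1 : D) ⊗ₜ e) := by
        simp [RingHom.algebraMap_toAlgebra, ν]
      have h2 : IsIntegral (D ⊗[A] E) ((1 : E) ⊗ₜ[A] y) := by
        obtain ⟨P, hP, hP0⟩ := Algebra.IsIntegral.isIntegral (R := D) y
        refine ⟨P.map (Algebra.TensorProduct.includeLeft (R := A) (S := A) (A := D) (B := E)).toRingHom,
          hP.map _, ?_⟩
        rw [Polynomial.eval₂_map]
        have hc : (algebraMap (D ⊗[A] E) (E ⊗[A] D')).comp
            (Algebra.TensorProduct.includeLeft (R := A) (S := A) (A := D) (B := E)).toRingHom =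
            (Algebra.TensorProduct.includeRight (R := A) (A := E) (B := D')).toRingHom.comp (algebraMap D D') :=
          RingHom.ext fun d => by simp [RingHom.algebraMap_toAlgebra, ν]
        rw [hc]
        have := congrArg (Algebra.TensorProduct.includeRight (R := A) (A := E) (B := D')).toRingHom hP0
        rw [Polynomial.hom_eval₂, map_zero] at this
        exact this
      rw [show e ⊗ₜ[A] y = (e ⊗ₜ[A] (1 : D')) * ((1 : E) ⊗ₜ[A] y) by simp, h1]
      exact isIntegral_algebraMap.mul h2⟩
  let qD : Ideal (D ⊗[A] E) := (maximalIdeal E).comap μD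
  haveI : qD.IsPrime := Ideal.IsPrime.comap _
  have hmD : (maximalIdeal E).comap (algebraMap D E) = maximalIdeal D :=
    ((local_hom_TFAE (algebraMap D E)).out 0 4).1 ‹_›
  have hMmax : ∀ M : Ideal (integralClosure E K), M.IsPrime →
      M.comap (algebraMap E (integralClosure E K)) = maximalIdeal E → M.IsMaximal := fun M hM h => by
    haveI := hM
    exact Ideal.isMaximal_of_isIntegral_of_isMaximal_comap (R := E) M (by rw [h]; exact maximalIdeal.isMaximal E)
  have hME : ∀ M : Ideal (integralClosure E K), M.IsMaximal →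
      M.comap (algebraMap E (integralClosure E K)) = maximalIdeal E := fun M hM => by
    haveI := hM
    exact eq_maximalIdeal (Ideal.isMaximal_comap_of_isIntegral_of_isMaximal (R := E) M)
  -- points over `qD` only see the component `K`
  have key : ∀ 𝔐 : Ideal (E ⊗[A] D'), 𝔐.IsPrime → 𝔐.comap ν = qD → ∀ t, μ' t = 0 → t ∈ 𝔐 := by
    intro 𝔐 hP hq
    haveI := hP
    have hN : ((𝔐.comap (Algebra.TensorProduct.includeRight (R := A) (A := E) (B := D'))) : Ideal D').IsMaximal := by
      haveI : ((𝔐.comap (Algebra.TensorProduct.includeRight (R := A) (A := E) (B := D'))) : Ideal D').IsPrime :=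
        Ideal.IsPrime.comap _
      refine Ideal.isMaximal_of_isIntegral_of_isMaximal_comap (R := D) _ ?_
      have : (𝔐.comap (Algebra.TensorProduct.includeRight (R := A) (A := E) (B := D'))).comap (algebraMap D D') =
          maximalIdeal D := by
        rw [← hmD]
        ext d
        have h := SetLike.ext_iff.1 hq (d ⊗ₜ (1 : E))
        simp [ν, qD, μD, RingHom.algebraMap_toAlgebra] at h ⊢
        exact h
      rw [this]
      exact maximalIdeal.isMaximal D
    let I : Ideal (E ⊗[A] D') := 𝔐 ⊓ (Ideal.jacobson (⊥ : Ideal (integralClosure E K))).comap μ'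
    have hJ : ∀ y ∈ Ideal.jacobson (⊥ : Ideal D'), ((1 : E) ⊗ₜ[A] y) ∈ I := by
      intro y hy
      refine ⟨Ideal.mem_sInf.1 hy ⟨bot_le, hN⟩, Ideal.mem_sInf.2 fun {M} hM => ?_⟩
      let j : D' →+* integralClosure E K := μ'.comp (Algebra.TensorProduct.includeRight (R := A) (A := E) (B := D')).toRingHom
      haveI := hM.2
      haveI : (M.comap j).IsPrime := Ideal.IsPrime.comap _
      have hmax : (M.comap j).IsMaximal := by
        refine Ideal.isMaximal_of_isIntegral_of_isMaximal_comap (R := D) _ ?_
        have : (M.comap j).comap (algebraMap D D') = maximalIdeal D := by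
          rw [← hmD, ← hME M hM.2]
          ext d
          simp only [Ideal.mem_comap]
          rw [show j (algebraMap D D' d) = algebraMap E (integralClosure E K) (algebraMap D E d) from
            Subtype.ext (by
              show μK ((1 : E) ⊗ₜ ι d) = algebraMap E K (d : E)
              simp [μK]
              exact hι d)]
        rw [this]
        exact maximalIdeal.isMaximal D
      exact Ideal.mem_sInf.1 hy (show M.comap j ∈ _ from ⟨bot_le, hmax⟩)
    have hgen : ∀ d : D, ((1 : E) ⊗ₜ[A] ι d) - ((d : E) ⊗ₜ[A] (1 : D')) ∈ I := fun d => by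
      have h : ((1 : E) ⊗ₜ[A] ι d) - ((d : E) ⊗ₜ[A] (1 : D')) = ν (d ⊗ₜ 1 - 1 ⊗ₜ (d : E)) := by
        simp [ν]
      have h0 : μD (d ⊗ₜ 1 - 1 ⊗ₜ (d : E)) = 0 := by simp [μD]
      rw [h]
      refine ⟨show d ⊗ₜ 1 - 1 ⊗ₜ (d : E) ∈ 𝔐.comap ν by rw [hq]; show μD _ ∈ maximalIdeal E; rw [h0]; exact zero_mem _, ?_⟩
      rw [SetLike.mem_coe, Ideal.mem_comap]
      rw [show μ' (ν (d ⊗ₜ 1 - 1 ⊗ₜ (d : E))) = 0 from Subtype.ext (by rw [hμ', hμν, h0, map_zero]; rfl)]
      exact zero_mem _
    let νA : E ⊗[A] A' →ₐ[E] E ⊗[A] D' := Algebra.TensorProduct.map (AlgHom.id E E) (Subalgebra.inclusion hle)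
    have hdec : ∀ t, ∃ u, t - νA u ∈ I := by
      intro t
      induction t with
      | zero => exact ⟨0, by simp⟩
      | add x y hx hy =>
        obtain ⟨u, hu⟩ := hx
        obtain ⟨v, hv⟩ := hy
        exact ⟨u + v, by rw [map_add, add_sub_add_comm]; exact add_mem hu hv⟩
      | tmul e y =>
        obtain ⟨w, hw⟩ := hres (Ideal.Quotient.mk _ y)
        have hyw : y - Algebra.TensorProduct.productMap (Subalgebra.inclusion hle) ι w ∈
            Ideal.jacobson (⊥ : Ideal D') := Ideal.Quotient.eq.1 hw.symm
        have hw' : ∀ w, ∃ u, e ⊗ₜ[A] Algebra.TensorProduct.productMap (Subalgebra.inclusion hle) ι w - νA u ∈ I := by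
          intro w
          induction w with
          | zero => exact ⟨0, by simp⟩
          | add x y hx hy =>
            obtain ⟨u, hu⟩ := hx
            obtain ⟨v, hv⟩ := hy
            exact ⟨u + v, by rw [map_add, map_add, tmul_add, add_sub_add_comm]; exact add_mem hu hv⟩
          | tmul a d =>
            refine ⟨(e * (d : E)) ⊗ₜ a, ?_⟩
            have := I.mul_mem_left (e ⊗ₜ[A] Subalgebra.inclusion hle a) (hgen d)
            simpa [mul_sub, νA, Algebra.TensorProduct.tmul_mul_tmul] using this
        obtain ⟨u, hu⟩ := hw' w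
        refine ⟨u, ?_⟩
        have h1 := I.mul_mem_left (e ⊗ₜ[A] (1 : D')) (hJ _ hyw)
        rw [Algebra.TensorProduct.tmul_mul_tmul, mul_one, one_mul, tmul_sub] at h1
        simpa using add_mem h1 hu
    intro t ht
    obtain ⟨u, hu1, hu2⟩ := hdec t
    let μA : E ⊗[A] A' →+* integralClosure E K := μ'.comp νA.toRingHom
    letI : Algebra (E ⊗[A] A') (integralClosure E K) := μA.toAlgebra
    haveI : IsScalarTower E (E ⊗[A] A') (integralClosure E K) := IsScalarTower.of_algebraMap_eq (R := E) (S := E ⊗[A] A') (A := integralClosure E K) fun e =>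
      Subtype.ext (by
        show algebraMap E K e = μK (νA (algebraMap E _ e))
        rw [AlgHom.commutes, AlgHom.commutes])
    haveI : Algebra.IsIntegral (E ⊗[A] A') (integralClosure E K) := Algebra.IsIntegral.tower_top E
    have hμA : Function.Injective μA := by
      have h : ∀ x, (μA x : K) =
          Algebra.TensorProduct.lift (Algebra.ofId E K) A'.val (fun _ _ => Commute.all _ _) x := by
        intro x
        show μK (νA x) = _
        induction x with
        | zero => simp
        | add x y hx hy => simp only [map_add, hx, hy]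
        | tmul e a =>
          simp [μK, νA]
      intro x y hxy
      exact injective_mul_of_denominators hu (hEK) A'
        (fun a ha => ((hA' a).1 ha).2) (by rw [← h, ← h, hxy])
    haveI : (𝔐.comap νA).IsPrime := Ideal.IsPrime.comap _
    obtain ⟨M, -, hM, hMP⟩ := Ideal.exists_ideal_over_prime_of_isIntegral (𝔐.comap νA)
      (⊥ : Ideal (integralClosure E K)) fun x hx => by
        have h0 : μA x = 0 := by rw [Ideal.mem_comap, Ideal.mem_bot] at hx; exact hx
        have : x = 0 := hμA (h0.trans (map_zero μA).symm)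
        rw [this]; exact zero_mem _
    have hMm : M.IsMaximal := hMmax M hM (by
      ext e
      rw [Ideal.mem_comap, IsScalarTower.algebraMap_apply E (E ⊗[A] A') (integralClosure E K), ← Ideal.mem_comap,
        hMP, Ideal.mem_comap, AlgHom.commutes]
      have h := SetLike.ext_iff.1 hq ((1 : D) ⊗ₜ e)
      simpa [ν, qD, μD] using h)
    have hu3 : μA u ∈ M := by
      have hJM : μ' (t - νA u) ∈ M := Ideal.mem_sInf.1 hu2 (show M ∈ _ from ⟨bot_le, hMm⟩)
      rw [map_sub, ht, zero_sub, neg_mem_iff] at hJM
      exact hJM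
    have hu4 : u ∈ 𝔐.comap νA := hMP ▸ hu3
    simpa using add_mem hu1 (show νA u ∈ 𝔐 from hu4)
  have hεnot : ∀ εT : E ⊗[A] D', μK εT = 1 → ∀ 𝔐 : Ideal (E ⊗[A] D'), 𝔐.IsPrime → 𝔐.comap ν = qD →
      εT ∉ 𝔐 := fun εT hε1 𝔐 hP hq hmem => by
    refine hP.ne_top ((Ideal.eq_top_iff_one _).2 ?_)
    have h := key 𝔐 hP hq (1 - εT) (Subtype.ext (by
      rw [hμ', map_sub, map_one, show μK εT = 1 from hε1, sub_self]; rfl))
    simpa using add_mem h hmem
  refine ⟨fun N hN => ?_, ?_⟩
  · haveI := hN
    have hNc : N.comap (algebraMap D D') = maximalIdeal D :=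
      eq_maximalIdeal (Ideal.isMaximal_comap_of_isIntegral_of_isMaximal (R := D) N)
    let g : E ⊗[A] D' →ₐ[A] E ⊗[A] (D' ⧸ N) :=
      Algebra.TensorProduct.map (AlgHom.id A E) (Ideal.Quotient.mkₐ A N)
    let f : (D ⧸ maximalIdeal D) →ₐ[A] D' ⧸ N := Ideal.quotientMapₐ N ι hNc.ge
    have hf : Function.Injective f := Ideal.quotientMap_injective' (H := hNc.ge) hNc.le
    let h : D ⊗[A] E →ₐ[A] E ⊗[A] (D ⧸ maximalIdeal D) :=
      Algebra.TensorProduct.lift ((Algebra.TensorProduct.includeRight).comp (Ideal.Quotient.mkₐ A _))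
        (Algebra.TensorProduct.includeLeft (R := A) (S := A)) fun d e => by
          simp only [Commute, SemiconjBy, AlgHom.comp_apply, Algebra.TensorProduct.includeRight_apply,
            Algebra.TensorProduct.includeLeft_apply, Algebra.TensorProduct.tmul_mul_tmul, mul_one, one_mul]
    let r : E ⊗[A] (D ⧸ maximalIdeal D) →ₐ[A] ResidueField E :=
      Algebra.TensorProduct.lift (IsScalarTower.toAlgHom A E (ResidueField E))
        (Ideal.Quotient.liftₐ (maximalIdeal D) ((IsScalarTower.toAlgHom A E (ResidueField E)).comp D.val)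
          fun d hd => (residue_eq_zero_iff _).2 (hmD.ge hd)) fun _ _ => Commute.all _ _
    have hgν : ∀ x, g (ν x) = Algebra.TensorProduct.map (AlgHom.id A E) f (h x) := by
      intro x
      induction x with
      | zero => simp
      | add x y hx hy => simp only [map_add, hx, hy]
      | tmul d e => simp [g, ν, h, f]
    have hrh : ∀ x, r (h x) = residue E (μD x) := by
      intro x
      induction x with
      | zero => simp
      | add x y hx hy => simp only [map_add, hx, hy]
      | tmul d e =>
        simp [r, h, μD, mul_comm]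
    obtain ⟨𝔐, hge, hP, hq⟩ := Ideal.exists_ideal_over_prime_of_isIntegral qD
      (N.map (Algebra.TensorProduct.includeRight (R := A) (A := E) (B := D'))) fun x hx => by
        have h0 : g (ν x) = 0 := by
          have hker : N.map (Algebra.TensorProduct.includeRight (R := A) (A := E) (B := D')) ≤ RingHom.ker g := by
            rw [Ideal.map_le_iff_le_comap]
            intro n hn
            show g ((1 : E) ⊗ₜ n) = 0
            simp [g, Ideal.Quotient.eq_zero_iff_mem.2 hn]
          exact hker hx
        have hinj : Function.Injective (Algebra.TensorProduct.map (AlgHom.id A E) f) :=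
          Module.Flat.lTensor_preserves_injective_linearMap (M := E) f.toLinearMap hf
        have h1 : h x = 0 := hinj (by rw [← hgν, h0, map_zero])
        show μD x ∈ maximalIdeal E
        rw [← residue_eq_zero_iff, ← hrh, h1, map_zero]
    letI : Algebra (E ⊗[A] D') (integralClosure E K) := μ'.toAlgebra
    haveI : IsScalarTower E (E ⊗[A] D') (integralClosure E K) := IsScalarTower.of_algebraMap_eq (R := E) (S := E ⊗[A] D') (A := integralClosure E K) fun e =>
      Subtype.ext (by
        show algebraMap E K e = μK (algebraMap E _ e)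
        rw [AlgHom.commutes])
    haveI : Algebra.IsIntegral (E ⊗[A] D') (integralClosure E K) := Algebra.IsIntegral.tower_top E
    haveI := hP
    obtain ⟨M, -, hM, hMP⟩ := Ideal.exists_ideal_over_prime_of_isIntegral 𝔐 (⊥ : Ideal (integralClosure E K))
      fun x hx => key 𝔐 hP hq x (by rw [Ideal.mem_comap, Ideal.mem_bot] at hx; exact hx)
    have hMm : M.IsMaximal := hMmax M hM (by
      ext e
      rw [Ideal.mem_comap, IsScalarTower.algebraMap_apply E (E ⊗[A] D') (integralClosure E K), ← Ideal.mem_comap,
        hMP]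
      have h := SetLike.ext_iff.1 hq ((1 : D) ⊗ₜ e)
      simpa [ν, qD, μD, RingHom.algebraMap_toAlgebra] using h)
    refine ⟨M, hMm, (hN.eq_of_le ((hMm.isPrime.comap _).ne_top) fun n hn => ?_).symm⟩
    have : μ' ((1 : E) ⊗ₜ n) ∈ M := by
      rw [← hMP] at hge
      exact hge (Ideal.mem_map_of_mem _ hn)
    have e1 : (Subalgebra.inclusion hDE' n : (integralClosure E K).restrictScalars A) = μ' ((1 : E) ⊗ₜ n) :=
      Subtype.ext (show (n : K) = μK ((1 : E) ⊗ₜ n) by simp [μK])
    show Subalgebra.inclusion hDE' n ∈ M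
    rw [e1]
    exact this
  · have hinj : ∀ x, μD x = 0 → ∃ s ∉ qD, s * x = 0 := by
      intro x hx
      by_contra! hall
      let IT : Ideal (E ⊗[A] D') := LinearMap.ker (LinearMap.toSpanSingleton (E ⊗[A] D') (E ⊗[A] D') (ν x))
      obtain ⟨𝔐, hge, hP, hq⟩ := Ideal.exists_ideal_over_prime_of_isIntegral qD IT fun s hs => by
        by_contra hsn
        refine hall s hsn (hνinj ?_)
        rw [map_mul, map_zero]
        exact hs
      obtain ⟨εT, hε1, hε0⟩ := hkill (ν x) (by rw [show _ = algebraMap E K (μD x) from hμν x, hx, map_zero])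
      refine hεnot εT hε1 𝔐 hP hq (hge ?_)
      show εT * ν x = 0
      rw [mul_comm]
      exact hε0
    letI : Algebra (D ⊗[A] E) E := μD.toRingHom.toAlgebra
    haveI : IsScalarTower D (D ⊗[A] E) E := IsScalarTower.of_algebraMap_eq (R := D) (S := D ⊗[A] E) (A := E) fun d => by
      show (d : E) = μD (d ⊗ₜ 1)
      simp [μD]
    haveI : IsLocalization qD.primeCompl E :=
      { map_units := fun y => by
          by_contra h
          exact y.2 ((mem_maximalIdeal _).2 h)
        surj := fun e => ⟨⟨(1 : D) ⊗ₜ e, 1⟩, by simp [RingHom.algebraMap_toAlgebra, μD]⟩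
        exists_of_eq := fun {x y} hxy => by
          obtain ⟨s, hs, hs0⟩ := hinj (x - y) (by rw [map_sub]; exact sub_eq_zero.2 hxy)
          exact ⟨⟨s, hs⟩, sub_eq_zero.1 (by rw [← mul_sub]; exact hs0)⟩ }
    haveI : Module.Flat (D ⊗[A] E) E := IsLocalization.flat E qD.primeCompl
    haveI : Module.Flat D E := Module.Flat.trans D (D ⊗[A] E) E
    haveI : Module.FaithfullyFlat D E := Module.FaithfullyFlat.of_flat_of_isLocalHom
    have h2 := Ideal.comap_map_eq_self_of_faithfullyFlat (B := E) ((maximalIdeal A).map (algebraMap A D))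
    rw [Ideal.map_map, ← IsScalarTower.algebraMap_eq, hm, hmD] at h2
    exact ⟨‹_›, h2.symm⟩


/-- If `A' ⊗ D` surjects onto the residual product of the normalization of `D`, then every maximal ideal of the
normalization lies below one of that of `E`, and `m_A` generates the maximal ideal of `D`. -/
theorem residual_criterion (A E : Type u) [CommRing A] [IsLocalRing A] [IsReduced A] [IsNoetherianRing A]
    [CommRing E] [IsLocalRing E] [Algebra A E] [IsLocalHom (algebraMap A E)]
    (hE : EGA4loc.IsEssentiallyEtale A E)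
    (D : Subalgebra A E) [IsLocalRing D] [IsLocalHom (algebraMap D E)]
    (A' D' : Subalgebra A (FractionRing E))
    (hA' : ∀ x : (FractionRing E), x ∈ A' ↔ (IsIntegral A x ∧
      ∃ a ∈ nonZeroDivisors A, ∃ b : A, algebraMap A (FractionRing E) a * x = algebraMap A (FractionRing E) b))
    (hD' : ∀ x : (FractionRing E), x ∈ D' ↔ (IsIntegral D x ∧
      ∃ a ∈ nonZeroDivisors A, ∃ d ∈ D, algebraMap A (FractionRing E) a * x = algebraMap E (FractionRing E) d))
    (hle : A' ≤ D') (hDE' : D' ≤ (integralClosure E (FractionRing E)).restrictScalars A)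
    (ι : D →ₐ[A] D') (hι : ∀ d : D, (ι d : FractionRing E) = algebraMap E (FractionRing E) d)
    (hres : Function.Surjective ((Ideal.Quotient.mkₐ A (Ideal.jacobson (⊥ : Ideal D'))).comp
      (Algebra.TensorProduct.productMap (Subalgebra.inclusion hle) ι))) :
    (∀ N : Ideal D', N.IsMaximal → ∃ M : Ideal ((integralClosure E (FractionRing E)).restrictScalars A),
        M.IsMaximal ∧ M.comap (Subalgebra.inclusion hDE') = N) ∧
      (maximalIdeal A).map (algebraMap A D) = maximalIdeal D := by
  classical
  let K := FractionRing E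
  obtain ⟨hArt, hred, hKE, hu, hKfin⟩ := fractionRing_setup A E hE
  haveI := hArt
  haveI := hred
  obtain ⟨C₀, _, _, q₀, _, _, _, hC₀, -, hl⟩ := EtAlg7.exists_presentation hE
  haveI : Module.Flat C₀ E := IsLocalization.flat E q₀.primeCompl
  haveI : Module.Flat A E := Module.Flat.trans A C₀ E
  let L : Subalgebra A K :=
    { carrier := {x | ∃ a ∈ A⁰, ∃ d ∈ D, algebraMap A K a * x = algebraMap E K d}
      mul_mem' := by
        rintro x y ⟨a, ha, d, hd, hx⟩ ⟨b, hb, e, he, hy⟩
        refine ⟨a * b, mul_mem ha hb, d * e, mul_mem hd he, ?_⟩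
        rw [map_mul, map_mul, ← hx, ← hy]
        ring
      add_mem' := by
        rintro x y ⟨a, ha, d, hd, hx⟩ ⟨b, hb, e, he, hy⟩
        refine ⟨a * b, mul_mem ha hb, algebraMap A E b * d + algebraMap A E a * e,
          add_mem (mul_mem (D.algebraMap_mem b) hd) (mul_mem (D.algebraMap_mem a) he), ?_⟩
        rw [map_mul, map_add, map_mul, map_mul, ← hx, ← hy, ← IsScalarTower.algebraMap_apply A E K,
          ← IsScalarTower.algebraMap_apply A E K]
        ring
      algebraMap_mem' := fun a => ⟨1, one_mem _, _, D.algebraMap_mem a, by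
        rw [map_one, one_mul, ← IsScalarTower.algebraMap_apply A E K]⟩ }
  have hL : ∀ a ∈ A⁰, ∃ y ∈ L, algebraMap A K a * y = 1 := fun a ha =>
    ⟨↑(hu ⟨a, ha⟩).unit⁻¹, ⟨a, ha, 1, one_mem _, by rw [map_one]; exact (hu ⟨a, ha⟩).mul_val_inv⟩,
      (hu ⟨a, ha⟩).mul_val_inv⟩
  obtain ⟨εT, -, hε1, hε0⟩ := exists_idempotent_mem (E := E) hu hKfin q₀.primeCompl L hL D'
    (fun x hx => ((hD' x).1 hx).2) (fun x hxL hx => (hD' x).2 ⟨IsIntegral.tower_top hx, hxL⟩)
  obtain ⟨h1, -, h3⟩ := residual_core hu (IsFractionRing.injective E K) (EtAlg7.map_maximalIdeal hE) D A' D' hA' hD'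
    hle hDE' ι hι hres fun z hz => ⟨εT, hε1, hε0 z hz⟩
  exact ⟨h1, h3⟩

end Groth.Agent.NormSemi5
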