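import Groth.Agent.NormSemi5.Basic
import Groth.Agent.S16448
import Groth.Agent.UnibConn.Fibre
import Mathlib.RingTheory.Ideal.MinimalPrime.Noetherian

/-!
# Maximal ideals of normalizations of reduced local rings and of intermediate rings
-/

set_option autoImplicit false
set_option linter.style.haveILetI false

universe u

open IsLocalRing
open scoped nonZeroDivisors

namespace Groth.Agent.NormSemi5

/-- The integral closure of a Noetherian reduced local ring in its total fraction ring is semilocal. -/
theorem finite_maximal_integralClosure (E K : Type u) [CommRing E] [IsLocalRing E] [IsNoetherianRing E]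
    [CommRing K] [Algebra E K] [IsFractionRing E K] [IsArtinianRing K] [IsReduced K] :
    {M : Ideal (integralClosure E K) | M.IsMaximal}.Finite := by
  classical
  haveI : Fintype (MaximalSpectrum K) := Fintype.ofFinite _
  let R := integralClosure E K
  suffices h : ∀ P : MaximalSpectrum K, ∃ S : Set (Ideal R), S.Finite ∧ ∀ M : Ideal R, M.IsMaximal →
      (P.asIdeal.comap R.val : Ideal R) ≤ M → M ∈ S by
    choose S hS hmem using h
    refine (Set.finite_iUnion hS).subset fun M hM => ?_
    haveI : M.IsMaximal := hM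
    have hle : Finset.univ.inf (fun P : MaximalSpectrum K => (P.asIdeal.comap R.val : Ideal R)) ≤ M := by
      intro x hx
      have h0 : (x : K) = 0 := IsNilpotent.eq_zero (nilpotent_iff_mem_prime.2 fun J hJ =>
        (Submodule.mem_finsetInf.1 hx) ⟨J, IsArtinianRing.isMaximal_of_isPrime J⟩ (Finset.mem_univ _))
      rw [show x = 0 from Subtype.ext h0]
      exact zero_mem _
    obtain ⟨P, -, hP⟩ := (hM.isPrime.inf_le').1 hle
    exact Set.mem_iUnion.2 ⟨P, hmem P M hM hP⟩
  intro P
  let p : Ideal E := P.asIdeal.comap (algebraMap E K)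
  haveI : p.IsPrime := Ideal.IsPrime.comap _
  letI := Ideal.Quotient.field P.asIdeal
  letI : Algebra (E ⧸ p) (K ⧸ P.asIdeal) := (Ideal.quotientMap P.asIdeal (algebraMap E K) le_rfl).toAlgebra
  haveI : IsScalarTower E (E ⧸ p) (K ⧸ P.asIdeal) := IsScalarTower.of_algebraMap_eq fun e => rfl
  have hinj : Function.Injective (algebraMap (E ⧸ p) (K ⧸ P.asIdeal)) := Ideal.quotientMap_injective
  haveI : FaithfulSMul (E ⧸ p) (K ⧸ P.asIdeal) := (faithfulSMul_iff_algebraMap_injective _ _).2 hinj
  haveI : IsFractionRing (E ⧸ p) (K ⧸ P.asIdeal) := by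
    refine IsFractionRing.of_field _ _ fun z => ?_
    obtain ⟨k, rfl⟩ := Ideal.Quotient.mk_surjective z
    obtain ⟨⟨e, s⟩, hes⟩ := IsLocalization.surj E⁰ k
    refine ⟨Ideal.Quotient.mk p e, Ideal.Quotient.mk p s, ?_⟩
    have hs : algebraMap (E ⧸ p) (K ⧸ P.asIdeal) (Ideal.Quotient.mk p s) ≠ 0 :=
      ((IsLocalization.map_units K s).map (Ideal.Quotient.mk P.asIdeal)).ne_zero
    rw [eq_div_iff hs]
    exact congrArg (Ideal.Quotient.mk P.asIdeal) hes
  let N := integralClosure (E ⧸ p) (K ⧸ P.asIdeal)
  let θ : R →+* N := ((Ideal.Quotient.mk P.asIdeal).comp R.val.toRingHom).codRestrict N.toSubring fun x =>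
    IsIntegral.tower_top (x.2.map (Ideal.Quotient.mkₐ E P.asIdeal))
  letI : Algebra R N := θ.toAlgebra
  haveI : Algebra.IsIntegral R N := ⟨fun y => by
    have h1 : (θ.comp (algebraMap E R)) = (algebraMap (E ⧸ p) N).comp (Ideal.Quotient.mk p) :=
      RingHom.ext fun e => Subtype.ext rfl
    have hq : (algebraMap E (E ⧸ p)).IsIntegral := RingHom.IsIntegral.of_finite (RingHom.Finite.of_surjective _ Ideal.Quotient.mk_surjective)
    have h2 : ((algebraMap (E ⧸ p) N).comp (Ideal.Quotient.mk p)).IsIntegral :=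
      RingHom.IsIntegral.trans _ _ hq fun z =>
        (isIntegral_algHom_iff (N.val) Subtype.val_injective).1 z.2
    rw [← h1] at h2
    exact RingHom.IsIntegralElem.of_comp (h2 y)⟩
  haveI : IsLocalRing (E ⧸ p) := IsLocalRing.of_surjective' (Ideal.Quotient.mk p) Ideal.Quotient.mk_surjective
  refine ⟨_, (UnibConn.finite_maximal_normalisation (E ⧸ p) (K ⧸ P.asIdeal)).image
    (fun Q : Ideal N => Q.comap θ), fun M hM hPM => ?_⟩
  haveI := hM
  obtain ⟨Q, -, hQ, hQM⟩ := Ideal.exists_ideal_over_prime_of_isIntegral M (⊥ : Ideal N) fun x hx =>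
    hPM (show (x : K) ∈ P.asIdeal from Ideal.Quotient.eq_zero_iff_mem.1 (congrArg Subtype.val ((Submodule.mem_bot N).1 hx)))
  haveI := hQ
  have hQmax : Q.IsMaximal := Ideal.isMaximal_of_isIntegral_of_isMaximal_comap (R := R) Q (by rw [hQM]; exact hM)
  exact ⟨Q, hQmax, hQM⟩

theorem intermediate_maximals
    (A E : Type u) [CommRing A] [IsLocalRing A] [IsReduced A] [IsNoetherianRing A]
    [CommRing E] [IsLocalRing E] [Algebra A E] [IsLocalHom (algebraMap A E)]
    (hE : EGA4loc.IsEssentiallyEtale A E) (L : Subalgebra A (FractionRing E))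
    (hL : ∀ s ∈ nonZeroDivisors A, ∃ y ∈ L, algebraMap A (FractionRing E) s * y = 1)
    (C : Subalgebra A (FractionRing E))
    (hC : C = L ⊓ (integralClosure E (FractionRing E)).restrictScalars A) :
    (∀ x ∈ L, IsIntegral C x → x ∈ C) ∧
      {N : Ideal C | N.IsMaximal}.Finite ∧
      (∀ N : Ideal C, N.IsMaximal ↔ ∃ M : Ideal ((integralClosure E (FractionRing E)).restrictScalars A),
          M.IsMaximal ∧ N = M.comap (Subalgebra.inclusion (hC.trans_le inf_le_right))) ∧
      ∀ l ∈ L, ∃ c ∈ C, ∃ s ∈ nonZeroDivisors A, ∃ y ∈ L,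
        algebraMap A (FractionRing E) s * y = 1 ∧ l = c * y := by
  classical
  have hmin : (minimalPrimes A).Finite := minimalPrimes.finite_of_isNoetherianRing A
  let K := FractionRing E
  obtain ⟨hKE, t, ht⟩ := S16448.result A E hmin hE
  obtain ⟨C₀, _, _, q, _, _, _, hC₀, -, hl⟩ := EtAlg7.exists_presentation hE
  haveI := EssEtFrac5.isArtinianRing_fractionRing hmin
  haveI : IsReduced C₀ := Hensel.isReduced_of_etale A C₀
  haveI : IsReduced E := isReduced_localizationPreserves q.primeCompl E inferInstance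
  haveI : IsReduced K := isReduced_localizationPreserves E⁰ K inferInstance
  haveI : IsNoetherianRing C₀ := Algebra.FiniteType.isNoetherianRing A C₀
  haveI : IsNoetherianRing E := IsLocalization.isNoetherianRing q.primeCompl E inferInstance
  have hu : ∀ a : A⁰, IsUnit (algebraMap A K a) := fun a => by
    haveI := hKE
    rw [IsScalarTower.algebraMap_apply A E K]
    exact IsLocalization.map_units K (⟨_, a, a.2, rfl⟩ : (A⁰).map (algebraMap A E))
  letI : Algebra (FractionRing A) K := (IsLocalization.lift (S := FractionRing A) hu).toAlgebra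
  haveI : IsScalarTower A (FractionRing A) K :=
    IsScalarTower.of_algebraMap_eq fun a => (IsLocalization.lift_eq hu a).symm
  haveI hKfin : Module.Finite (FractionRing A) K := by
    refine ⟨⟨t, Submodule.eq_top_iff'.2 fun x => ?_⟩⟩
    obtain ⟨a, ha, hax⟩ := ht x
    have h1 : algebraMap A K a * x ∈ Submodule.span (FractionRing A) (t : Set K) :=
      Submodule.span_le_restrictScalars A (FractionRing A) _ hax
    have h2 : x = (IsLocalization.mk' (FractionRing A) 1 (⟨a, ha⟩ : A⁰)) • (algebraMap A K a * x) := by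
      rw [Algebra.smul_def, IsScalarTower.algebraMap_apply A (FractionRing A) K, ← mul_assoc, ← map_mul,
        IsLocalization.mk'_spec, map_one, map_one, one_mul]
    rw [h2]
    exact Submodule.smul_mem _ _ h1
  haveI : IsArtinianRing K := IsArtinianRing.of_finite (FractionRing A) K
  let E' := (integralClosure E K).restrictScalars A
  subst hC
  have hmul : ∀ x : K, ∃ m ∈ A⁰, IsIntegral A (algebraMap A K m * x) := fun x => by
    obtain ⟨m, hm⟩ := IsIntegral.exists_multiple_integral_of_isLocalization A⁰ x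
      (IsIntegral.of_finite (FractionRing A) x)
    exact ⟨m, m.2, by rw [← Algebra.smul_def]; exact hm⟩
  have hfinE' : {M : Ideal E' | M.IsMaximal}.Finite := finite_maximal_integralClosure E K
  let C₁ : Subalgebra A K := L ⊓ integralClosure A K
  have h1 : C₁ ≤ L ⊓ E' := fun x hx => ⟨hx.1, IsIntegral.tower_top (A := E) hx.2⟩
  have h1E : C₁ ≤ E' := fun x hx => (h1 hx).2
  have hflat := flat_integralClosure hu hKfin hKE q.primeCompl L hL C₁ rfl h1E
  have hC₁max : ∀ M : Ideal E', M.IsMaximal → (M.comap (Subalgebra.inclusion h1E)).IsMaximal := by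
    intro M hM
    haveI : Algebra.IsIntegral A C₁ := ⟨fun c => (isIntegral_algHom_iff C₁.val Subtype.val_injective).1 c.2.2⟩
    haveI : (M.comap (Subalgebra.inclusion h1E)).IsPrime := hM.isPrime.comap _
    refine Ideal.isMaximal_of_isIntegral_of_isMaximal_comap (R := A) _ ?_
    have hME : (M.comap (algebraMap E (integralClosure E K))).IsMaximal := by
      haveI : M.IsMaximal := hM
      exact Ideal.isMaximal_comap_of_isIntegral_of_isMaximal (R := E) (S := integralClosure E K) M (hI := hM)
    have hAE : (maximalIdeal E).comap (algebraMap A E) = maximalIdeal A :=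
      ((local_hom_TFAE (algebraMap A E)).out 0 4).1 ‹_›
    have : (M.comap (Subalgebra.inclusion h1E)).comap (algebraMap A C₁) =
        (M.comap (algebraMap E (integralClosure E K))).comap (algebraMap A E) := by
      ext a
      simp only [Ideal.mem_comap]
      rw [show Subalgebra.inclusion h1E (algebraMap A C₁ a) =
        algebraMap E (integralClosure E K) (algebraMap A E a) from Subtype.ext (IsScalarTower.algebraMap_apply A E K a)]
      exact Iff.rfl
    rw [this, eq_maximalIdeal hME, hAE]
    exact maximalIdeal.isMaximal A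
  -- a denominator in `C₁` that is a unit of `E'`
  have hden : ∀ x ∈ L ⊓ E', ∃ σ : C₁, IsUnit (Subalgebra.inclusion h1E σ) ∧ (σ : K) * x ∈ C₁ := by
    intro x hx
    obtain ⟨m, hm, hmx⟩ := hmul x
    have hc : algebraMap A K m * x ∈ C₁ := ⟨mul_mem (L.algebraMap_mem _) hx.1, hmx⟩
    let I : Ideal C₁ :=
      { carrier := {s | (s : K) * x ∈ C₁}
        add_mem' := fun {s s'} hs hs' => by
          show ((s : K) + (s' : K)) * x ∈ C₁
          rw [add_mul]; exact add_mem hs hs'
        zero_mem' := by show (0 : K) * x ∈ C₁; rw [zero_mul]; exact zero_mem _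
        smul_mem' := fun r s hs => by
          show (r : K) * (s : K) * x ∈ C₁
          rw [mul_assoc]; exact mul_mem r.2 hs }
    by_contra! hno
    have hsub : (I : Set C₁) ⊆ ⋃ M ∈ hfinE'.toFinset,
        ((M.comap (Subalgebra.inclusion h1E) : Ideal C₁) : Set C₁) := fun σ hσ => by
      obtain ⟨M, hM, hmem⟩ := exists_max_ideal_of_mem_nonunits
        (a := Subalgebra.inclusion h1E σ) fun h => hno σ h hσ
      simp only [Set.mem_iUnion]
      exact ⟨M, hfinE'.mem_toFinset.2 hM, hmem⟩
    obtain ⟨M, hM, hle'⟩ := (Ideal.subset_union_prime ⊤ ⊤ fun M hM _ _ =>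
      (hfinE'.mem_toFinset.1 hM).isPrime.comap _).1 hsub
    haveI : M.IsMaximal := hfinE'.mem_toFinset.1 hM
    obtain ⟨s, hs, hsx⟩ := exists_mul_mem_of_flat C₁ _ h1E hflat M hx.2 (hu ⟨m, hm⟩) hc
    exact hs (hle' hsx)
  -- units of `E'` in the intermediate ring are units there
  have hunit : ∀ x : (L ⊓ E' : Subalgebra A K), IsUnit (Subalgebra.inclusion (inf_le_right : L ⊓ E' ≤ E') x) →
      IsUnit x := by
    intro x hx
    obtain ⟨w, hw⟩ := hx.exists_right_inv
    have hw' : (x : K) * (w : K) = 1 := congrArg Subtype.val hw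
    let LK : Subalgebra (FractionRing A) K :=
      { L.toSubsemiring with
        algebraMap_mem' := fun c => by
          obtain ⟨r, s, rfl⟩ := IsLocalization.exists_mk'_eq A⁰ c
          obtain ⟨y, hy, hy'⟩ := hL s s.2
          show algebraMap (FractionRing A) K (IsLocalization.mk' (FractionRing A) r s) ∈ L
          suffices algebraMap (FractionRing A) K (IsLocalization.mk' (FractionRing A) r s) = algebraMap A K r * y by
            rw [this]; exact mul_mem (L.algebraMap_mem r) hy
          refine (hu s).mul_left_cancel ?_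
          rw [mul_left_comm, hy', mul_one, IsScalarTower.algebraMap_apply A (FractionRing A) K, ← map_mul,
            mul_comm, IsLocalization.mk'_spec, ← IsScalarTower.algebraMap_apply] }
    haveI : Module.Finite (FractionRing A) LK := Module.Finite.of_injective LK.val.toLinearMap Subtype.val_injective
    haveI : IsArtinianRing LK := IsArtinianRing.of_finite (FractionRing A) LK
    have hxu : IsUnit (⟨(x : K), x.2.1⟩ : LK) := IsArtinianRing.isUnit_of_mem_nonZeroDivisors
      (mem_nonZeroDivisors_iff_right.2 fun y hy => Subtype.ext (by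
        have h : (y : K) * (x : K) = 0 := congrArg Subtype.val hy
        show (y : K) = 0
        rw [← mul_one (y : K), ← hw', ← mul_assoc, h, zero_mul]))
    obtain ⟨v, hv⟩ := hxu.exists_right_inv
    have hv' : (x : K) * (v : K) = 1 := congrArg Subtype.val hv
    have hvw : (v : K) = w := by
      rw [← mul_one (v : K), ← hw', ← mul_assoc, mul_comm (v : K), hv', one_mul]
    exact IsUnit.of_mul_eq_one (⟨(v : K), v.2, hvw ▸ w.2⟩ : (L ⊓ E' : Subalgebra A K)) (Subtype.ext hv')
  let incl := Subalgebra.inclusion (inf_le_right : L ⊓ E' ≤ E')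
  have hcover : ∀ N : Ideal (L ⊓ E' : Subalgebra A K), N ≠ ⊤ → ∃ M : Ideal E', M.IsMaximal ∧ N ≤ M.comap incl := by
    intro N hN
    have hsub : (N : Set (L ⊓ E' : Subalgebra A K)) ⊆ ⋃ M ∈ hfinE'.toFinset,
        ((M.comap incl : Ideal (L ⊓ E' : Subalgebra A K)) : Set (L ⊓ E' : Subalgebra A K)) := fun x hx => by
      obtain ⟨M, hM, hmem⟩ := exists_max_ideal_of_mem_nonunits (a := incl x) fun h =>
        hN (N.eq_top_of_isUnit_mem hx (hunit x h))
      simp only [Set.mem_iUnion]
      exact ⟨M, hfinE'.mem_toFinset.2 hM, hmem⟩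
    obtain ⟨M, hM, hle'⟩ := (Ideal.subset_union_prime ⊤ ⊤ fun M hM _ _ =>
      (hfinE'.mem_toFinset.1 hM).isPrime.comap _).1 hsub
    exact ⟨M, hfinE'.mem_toFinset.1 hM, hle'⟩
  have hchar : ∀ N : Ideal (L ⊓ E' : Subalgebra A K), N.IsMaximal ↔ ∃ M : Ideal E', M.IsMaximal ∧ N = M.comap incl := by
    intro N
    constructor
    · intro hN
      obtain ⟨M, hM, hle⟩ := hcover N hN.ne_top
      exact ⟨M, hM, hN.eq_of_le (hM.isPrime.comap _).ne_top hle⟩
    · rintro ⟨M, hM, rfl⟩
      obtain ⟨N', hN', hle⟩ := Ideal.exists_le_maximal _ (hM.isPrime.comap incl).ne_top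
      obtain ⟨M', hM', hle'⟩ := hcover N' hN'.ne_top
      suffices N' ≤ M.comap incl by rw [le_antisymm hle this]; exact hN'
      intro x hx
      obtain ⟨σ, hσu, hσx⟩ := hden x x.2
      have heq : M.comap (Subalgebra.inclusion h1E) = M'.comap (Subalgebra.inclusion h1E) :=
        (hC₁max M hM).eq_of_le (hM'.isPrime.comap _).ne_top fun z hz => hle' (hle (show
          (⟨(z : K), h1 z.2⟩ : (L ⊓ E' : Subalgebra A K)) ∈ M.comap incl from hz))
      have hz : (⟨_, hσx⟩ : C₁) ∈ M'.comap (Subalgebra.inclusion h1E) := by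
        show Subalgebra.inclusion h1E ⟨_, hσx⟩ ∈ M'
        rw [show Subalgebra.inclusion h1E ⟨_, hσx⟩ = Subalgebra.inclusion h1E σ * incl x from Subtype.ext rfl]
        exact M'.mul_mem_left _ (hle' hx)
      rw [← heq] at hz
      have hz' : Subalgebra.inclusion h1E σ * incl x ∈ M := hz
      exact (hM.isPrime.mem_or_mem hz').resolve_left fun h => hM.ne_top (M.eq_top_of_isUnit_mem h hσu)
  refine ⟨fun x hxL hx => ?_, ?_, hchar, fun l hl => ?_⟩
  · obtain ⟨P, hP, hP0⟩ := hx
    let f : (L ⊓ E' : Subalgebra A K) →+* integralClosure E K :=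
      { toFun := fun c => ⟨(c : K), c.2.2⟩
        map_one' := rfl
        map_mul' := fun _ _ => rfl
        map_zero' := rfl
        map_add' := fun _ _ => rfl }
    refine ⟨hxL, isIntegral_trans (A := integralClosure E K) x ⟨P.map f, hP.map f, ?_⟩⟩
    rw [Polynomial.eval₂_map]
    exact hP0
  · refine (hfinE'.image fun M => M.comap incl).subset fun N hN => ?_
    obtain ⟨M, hM, rfl⟩ := (hchar N).1 hN
    exact ⟨M, hM, rfl⟩
  · obtain ⟨m, hm, hml⟩ := hmul l
    obtain ⟨y, hy, hy'⟩ := hL m hm
    exact ⟨_, ⟨mul_mem (L.algebraMap_mem m) hl, IsIntegral.tower_top (A := E) hml⟩, m, hm, y, hy, hy', by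
      rw [mul_right_comm, hy', one_mul]⟩

end Groth.Agent.NormSemi5
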