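import Groth.Agent.NormSemi5.StrictCore
import Groth.Agent.NormSemi5.Main
import Groth.Agent.S16438
import Groth.Agent.S16441

/-!
# The residual criterion inside a strict henselization
-/

set_option autoImplicit false
set_option linter.style.haveILetI false
set_option maxHeartbeats 1000000
set_option synthInstance.maxHeartbeats 100000
set_option backward.isDefEq.respectTransparency false
set_option backward.isDefEq.respectTransparency.types false

universe u

open IsLocalRing TensorProduct
open scoped nonZeroDivisors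

namespace Groth.Agent.NormSemi5

/-- Integrality is insensitive to an isomorphism of bases and an injection of the ambient rings. -/
theorem isIntegral_iff_of_ringEquiv {R R' B B' : Type u} [CommRing R] [CommRing R'] [CommRing B] [CommRing B']
    [Algebra R B] [Algebra R' B'] (e : R ≃+* R') (f : B →+* B') (hf : Function.Injective f)
    (h : ∀ r, f (algebraMap R B r) = algebraMap R' B' (e r)) (b : B) :
    IsIntegral R b ↔ IsIntegral R' (f b) := by
  have hc : f.comp (algebraMap R B) = (algebraMap R' B').comp e.toRingHom := RingHom.ext h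
  constructor
  · rintro ⟨P, hP, hP0⟩
    refine ⟨P.map e.toRingHom, hP.map _, ?_⟩
    rw [Polynomial.eval₂_map, ← hc, ← Polynomial.hom_eval₂, hP0, map_zero]
  · rintro ⟨P, hP, hP0⟩
    refine ⟨P.map e.symm.toRingHom, hP.map _, hf ?_⟩
    rw [Polynomial.eval₂_map, Polynomial.hom_eval₂, map_zero, ← RingHom.comp_assoc, hc, RingHom.comp_assoc]
    rw [show e.toRingHom.comp e.symm.toRingHom = RingHom.id R' from RingHom.ext e.apply_symm_apply,
      RingHom.comp_id]
    exact hP0

/-- An intermediate ring over which the strict henselization is faithfully flat satisfies the residual criterion. -/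
theorem residual_of_faithfullyFlat
    (A S : Type u) [CommRing A] [IsLocalRing A] [IsReduced A] (hA : EGA4.IsExcellent A)
    [CommRing S] [IsLocalRing S] [Algebra A S] [IsLocalHom (algebraMap A S)]
    [Hensel.IsStrictHenselization A S] (D : Subalgebra A S) [IsLocalRing D]
    [IsLocalHom (algebraMap D S)] [Module.FaithfullyFlat D S]
    (A' D' : Subalgebra A (FractionRing S))
    (hA' : ∀ x : (FractionRing S), x ∈ A' ↔ (IsIntegral A x ∧
      ∃ a ∈ nonZeroDivisors A, ∃ b : A, algebraMap A (FractionRing S) a * x = algebraMap A (FractionRing S) b))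
    (hD' : ∀ x : (FractionRing S), x ∈ D' ↔ (IsIntegral D x ∧
      ∃ a ∈ nonZeroDivisors A, ∃ d ∈ D, algebraMap A (FractionRing S) a * x = algebraMap S (FractionRing S) d))
    (hle : A' ≤ D') (ι : D →ₐ[A] D') (hι : ∀ d : D, (ι d : (FractionRing S)) = algebraMap S (FractionRing S) d) :
    ({N : Ideal D' | N.IsMaximal}.Finite ∧
        Function.Surjective ((Ideal.Quotient.mkₐ A (Ideal.jacobson (⊥ : Ideal D'))).comp
          (Algebra.TensorProduct.productMap (Subalgebra.inclusion hle) ι)) ∧
        RingHom.ker ((Ideal.Quotient.mkₐ A (Ideal.jacobson (⊥ : Ideal D'))).comp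
          (Algebra.TensorProduct.productMap (Subalgebra.inclusion hle) ι)) =
          (Ideal.jacobson (⊥ : Ideal A')).map
              (Algebra.TensorProduct.includeLeft : A' →ₐ[A] A' ⊗[A] D) ⊔
            (maximalIdeal D).map
              (Algebra.TensorProduct.includeRight : D →ₐ[A] A' ⊗[A] D)) := by
  classical
  haveI : IsNoetherianRing A := hA.1
  have hmin : (minimalPrimes A).Finite := minimalPrimes.finite_of_isNoetherianRing A
  let K := FractionRing S
  have hu : ∀ a : A⁰, IsUnit (algebraMap A K a) := isUnit_nzd_strict A S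
  haveI : IsLocalHom (algebraMap A D) := ⟨fun a ha => by
    have := ha.map (algebraMap D S)
    rw [← IsScalarTower.algebraMap_apply] at this
    exact (isUnit_map_iff (algebraMap A S) a).1 this⟩
  haveI : Module.Flat A S := HenselConn.flat_strict A S
  haveI : Module.Flat A D := flat_of_faithfullyFlat A D S
  have hmS := Hensel.map_maximalIdeal_of_isStrictHenselization A S
  have hDm : (maximalIdeal A).map (algebraMap A D) = maximalIdeal D := by
    have h2 := Ideal.comap_map_eq_self_of_faithfullyFlat (B := S) ((maximalIdeal A).map (algebraMap A D))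
    have hDS : (maximalIdeal S).comap (algebraMap D S) = maximalIdeal D :=
      ((local_hom_TFAE (algebraMap D S)).out 0 4).1 ‹_›
    rw [Ideal.map_map, ← IsScalarTower.algebraMap_eq, hmS, hDS] at h2
    exact h2.symm
  have hSK : Function.Injective (algebraMap S K) := IsFractionRing.injective S K
  have hDK : Function.Injective (algebraMap D K) := fun x y h => Subtype.ext (hSK h)
  -- `D ⊗ A'` is the normalization
  letI : Algebra D D' := ι.toRingHom.toAlgebra
  haveI : IsScalarTower A D D' := IsScalarTower.of_algebraMap_eq fun a => (ι.commutes a).symm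
  haveI : IsScalarTower D D' K := IsScalarTower.of_algebraMap_eq fun d => (hι d).symm
  let ψ : D ⊗[A] A' →ₐ[D] D' :=
    Algebra.TensorProduct.lift (Algebra.ofId D D') (Subalgebra.inclusion hle) fun _ _ => Commute.all _ _
  have hψK : ∀ z, (ψ z : K) =
      Algebra.TensorProduct.lift (Algebra.ofId D K) A'.val (fun _ _ => Commute.all _ _) z := by
    intro z
    induction z with
    | zero => simp
    | add x y hx hy => rw [map_add, map_add, ← hx, ← hy]; rfl
    | tmul d a =>
      simp [ψ]
      exact congrArg (· * (a : K)) (hι d)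
  have hψinj : Function.Injective ψ := fun x y h =>
    injective_mul_of_denominators hu hDK A' (fun y hy => ((hA' y).1 hy).2) (by rw [← hψK, ← hψK, h])
  let L₀ : Subalgebra A K :=
    { carrier := {x | ∃ a ∈ A⁰, ∃ b : A, algebraMap A K a * x = algebraMap A K b}
      mul_mem' := by
        rintro x y ⟨a, ha, d, hx⟩ ⟨b, hb, e, hy⟩
        refine ⟨a * b, mul_mem ha hb, d * e, ?_⟩
        rw [map_mul, map_mul, ← hx, ← hy]
        ring
      add_mem' := by
        rintro x y ⟨a, ha, d, hx⟩ ⟨b, hb, e, hy⟩
        refine ⟨a * b, mul_mem ha hb, b * d + a * e, ?_⟩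
        rw [map_mul, map_add, map_mul, map_mul, ← hx, ← hy]
        ring
      algebraMap_mem' := fun a => ⟨1, one_mem _, a, by rw [map_one, one_mul]⟩ }
  have hψsurj : Function.Surjective ψ := by
    intro x
    obtain ⟨hxint, a, ha, d, hd, hx⟩ := (hD' x).1 x.2
    let v : L₀ := ⟨↑(hu ⟨a, ha⟩).unit⁻¹, a, ha, 1, by rw [map_one]; exact (hu ⟨a, ha⟩).mul_val_inv⟩
    let μ0 : D ⊗[A] L₀ →ₐ[D] K := Algebra.TensorProduct.lift (Algebra.ofId D K) L₀.val fun _ _ => Commute.all _ _
    have hμ0 : Function.Injective μ0 := injective_mul_of_denominators hu hDK L₀ fun y hy => hy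
    have hz : μ0 ((⟨d, hd⟩ : D) ⊗ₜ v) = (x : K) := by
      simp only [μ0, Algebra.TensorProduct.lift_tmul, Algebra.ofId_apply, Subalgebra.coe_val]
      show algebraMap S K d * _ = _
      rw [← hx, mul_right_comm]
      simp only [v]
      rw [(hu ⟨a, ha⟩).mul_val_inv, one_mul]
    obtain ⟨P, hP, hP0⟩ := hxint
    obtain ⟨E, hTE, _, hE, -⟩ := EssEtFrac5.exists_essEtale_containing (A := A) S
      (insert d ((P.map (algebraMap D S)).coeffs))
    obtain ⟨C₀, _, _, q₀, _, _, _, hC₀, -, hl⟩ := EtAlg7.exists_presentation hE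
    haveI : Module.Flat C₀ E := IsLocalization.flat E q₀.primeCompl
    haveI : Module.Flat A E := Module.Flat.trans A C₀ E
    have hEK : Function.Injective (algebraMap E K) := fun x y h => Subtype.ext (hSK h)
    let dE : E := ⟨d, hTE _ (Finset.mem_insert_self _ _)⟩
    let μE : E ⊗[A] L₀ →ₐ[E] K := Algebra.TensorProduct.lift (Algebra.ofId E K) L₀.val fun _ _ => Commute.all _ _
    have hμE : Function.Injective μE := injective_mul_of_denominators hu hEK L₀ fun y hy => hy
    have hxE : IsIntegral E (x : K) := by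
      have hlift : P.map (algebraMap D S) ∈ Polynomial.lifts (algebraMap E S) := by
        rw [Polynomial.lifts_iff_coeff_lifts]
        intro n
        by_cases h : (P.map (algebraMap D S)).coeff n = 0
        · exact ⟨0, by rw [h, map_zero]⟩
        · exact ⟨⟨_, hTE _ (Finset.mem_insert_of_mem (Polynomial.coeff_mem_coeffs h))⟩, rfl⟩
      obtain ⟨R, hR, -, hRm⟩ := Polynomial.lifts_and_natDegree_eq_and_monic hlift (hP.map _)
      refine ⟨R, hRm, ?_⟩
      have h := congrArg (Polynomial.eval₂ (algebraMap S K) (x : K)) hR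
      rw [Polynomial.eval₂_map, Polynomial.eval₂_map] at h
      exact h.trans hP0
    have hzE : μE (dE ⊗ₜ v) = (x : K) := Eq.trans (by simp [μE, μ0, dE]) hz
    have hzint : IsIntegral E (dE ⊗ₜ[A] v) := (isIntegral_algHom_iff μE hμE).1 (by rw [hzE]; exact hxE)
    have hsurj : Function.Surjective (TensorProduct.toIntegralClosure A E L₀) :=
      (TensorProduct.toIntegralClosure_bijective_of_tower (R := A) (S := C₀) (T := E) (B := L₀)
        TensorProduct.toIntegralClosure_bijective_of_smooth
        (TensorProduct.toIntegralClosure_bijective_of_isLocalization q₀.primeCompl)).2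
    obtain ⟨w, hw⟩ := hsurj ⟨_, hzint⟩
    have hAL : A' ≤ L₀ := fun y hy => ((hA' y).1 hy).2
    let k : integralClosure A L₀ →ₐ[A] A' :=
      (L₀.val.comp (integralClosure A L₀).val).codRestrict A' fun l => (hA' _).2 ⟨l.2.map L₀.val, l.1.2⟩
    let inc : D →ₗ[A] S := (IsScalarTower.toAlgHom A D S).toLinearMap
    let incl : A' →ₗ[A] L₀ := (Subalgebra.inclusion hAL).toLinearMap
    have hzS : inc.rTensor L₀ ((⟨d, hd⟩ : D) ⊗ₜ v) = incl.lTensor S (Algebra.TensorProduct.map E.val k w) := by
      have h1 : ∀ w, incl.lTensor S (Algebra.TensorProduct.map E.val k w) =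
          (Algebra.TensorProduct.map E.val (AlgHom.id A L₀)) (TensorProduct.toIntegralClosure A E L₀ w : E ⊗[A] L₀) := by
        intro w
        induction w with
        | zero => simp
        | add p q hp hq => rw [map_add, map_add, hp, hq, map_add (TensorProduct.toIntegralClosure A E L₀), ← map_add]; rfl
        | tmul e l =>
          simp [incl, k, TensorProduct.toIntegralClosure]
          rfl
      rw [h1, show (TensorProduct.toIntegralClosure A E L₀ w : E ⊗[A] L₀) = dE ⊗ₜ[A] v from congrArg Subtype.val hw]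
      simp [inc, dE]
    have hzero : (LinearMap.range incl).mkQ.lTensor D ((⟨d, hd⟩ : D) ⊗ₜ v) = 0 := by
      apply injective_rTensor_of_faithfullyFlat (A := A) (D := D) (S := S) (L₀ ⧸ LinearMap.range incl)
      rw [map_zero, ← LinearMap.comp_apply, LinearMap.rTensor_comp_lTensor, ← LinearMap.lTensor_comp_rTensor,
        LinearMap.comp_apply, show inc.rTensor L₀ _ = _ from hzS, ← LinearMap.comp_apply, ← LinearMap.lTensor_comp,
        LinearMap.range_mkQ_comp, LinearMap.lTensor_zero, LinearMap.zero_apply]
    obtain ⟨w', hw'⟩ := (lTensor_exact D (LinearMap.exact_map_mkQ_range incl) (Submodule.mkQ_surjective _) _).1 hzero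
    refine ⟨w', Subtype.ext ?_⟩
    rw [hψK, ← hz, ← hw']
    clear hw' hzero
    induction w' with
    | zero => simp
    | add p q hp hq => simp only [map_add, hp, hq]
    | tmul e l =>
      simp [μ0, incl]
      rfl
  -- finiteness
  haveI := EssEtFrac5.isArtinianRing_fractionRing hmin
  haveI : IsReduced (FractionRing A) := isReduced_localizationPreserves A⁰ _ inferInstance
  haveI : Algebra.EssFiniteType A (FractionRing A) := Algebra.EssFiniteType.of_isLocalization _ A⁰
  haveI : Module.Finite A A' := by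
    haveI := finite_integralClosure_artinian (K := FractionRing A)
      (CompleteNagata.isNagata_of_isQuasiExcellent A ⟨hA.1, hA.2.2.1, hA.2.2.2⟩)
    let f : FractionRing A →ₐ[A] K := IsLocalization.liftAlgHom (M := A⁰) (f := Algebra.ofId A K) hu
    have hfinj : Function.Injective f := by
      refine (injective_iff_map_eq_zero f).2 fun x hx => ?_
      obtain ⟨r, s, rfl⟩ := IsLocalization.exists_mk'_eq A⁰ x
      have h0 : algebraMap A K r = 0 := by
        rw [← f.commutes, ← IsLocalization.mk'_spec (FractionRing A) r s, map_mul, hx, zero_mul]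
      haveI : Module.Flat A S := HenselConn.flat_strict A S
      haveI : Module.FaithfullyFlat A S := Module.FaithfullyFlat.of_flat_of_isLocalHom
      have hr : r = 0 := FaithfulSMul.algebraMap_injective A S (hSK (by
        rw [← IsScalarTower.algebraMap_apply, h0, map_zero, map_zero]))
      rw [hr, IsLocalization.mk'_zero]
    have hsurjf : ∀ y : A', ∃ z : integralClosure A (FractionRing A), f z = (y : K) := by
      intro y
      obtain ⟨hyint, a, ha, b, hy⟩ := (hA' y).1 y.2
      have hfz : f (IsLocalization.mk' (FractionRing A) b ⟨a, ha⟩) = (y : K) := by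
        refine (hu ⟨a, ha⟩).mul_left_cancel ?_
        rw [hy, ← f.commutes a, ← map_mul, mul_comm, IsLocalization.mk'_spec, f.commutes]
      exact ⟨⟨_, (isIntegral_algHom_iff f hfinj).1 (hfz.symm ▸ hyint)⟩, hfz⟩
    choose g hg using hsurjf
    let gl : A' →ₗ[A] integralClosure A (FractionRing A) :=
      { toFun := g
        map_add' := fun x y => Subtype.ext (hfinj (by
          show f (g (x + y)) = f ((g x : FractionRing A) + (g y : FractionRing A))
          rw [map_add, hg, hg, hg]; rfl))
        map_smul' := fun r x => Subtype.ext (hfinj (by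
          show f (g (r • x)) = f (r • (g x : FractionRing A))
          rw [map_smul, hg, hg]; rfl)) }
    refine Module.Finite.of_injective gl fun x y h => Subtype.ext ?_
    rw [← hg x, ← hg y]
    exact congrArg (fun z : integralClosure A (FractionRing A) => f z) h
  haveI : Module.Finite D D' := Module.Finite.of_surjective ψ.toLinearMap hψsurj
  haveI : Algebra.IsIntegral D D' := Algebra.IsIntegral.of_finite D D'
  haveI : Algebra.QuasiFinite D D' := inferInstance
  have hNm : ∀ N : Ideal D', N.IsMaximal → N.comap ι = maximalIdeal D := fun N hN => by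
    haveI := hN
    exact eq_maximalIdeal (Ideal.isMaximal_comap_of_isIntegral_of_isMaximal (R := D) N)
  let φ : A' ⊗[A] D →ₐ[A] D' := Algebra.TensorProduct.productMap (Subalgebra.inclusion hle) ι
  have hφψ : ∀ z, φ z = ψ (Algebra.TensorProduct.comm A A' D z) := by
    intro z
    induction z with
    | zero => simp
    | add x y hx hy => rw [map_add, map_add, map_add, hx, hy]
    | tmul a d =>
      simp [φ, ψ, mul_comm]
      rfl
  have hφsurj : Function.Surjective φ := fun y => by
    obtain ⟨z, hz⟩ := hψsurj y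
    exact ⟨(Algebra.TensorProduct.comm A A' D).symm z, by rw [hφψ, AlgEquiv.apply_symm_apply, hz]⟩
  have hφinj : Function.Injective φ := fun x y h =>
    (Algebra.TensorProduct.comm A A' D).injective (hψinj (by rw [← hφψ, ← hφψ, h]))
  refine ⟨?_, fun y => ?_, ?_⟩
  · refine (Algebra.QuasiFinite.finite_primesOver (R := D) (S := D') (maximalIdeal D)).subset fun N hN => ?_
    exact ⟨(hN : N.IsMaximal).isPrime, ⟨(hNm N hN).symm⟩⟩
  · obtain ⟨y, rfl⟩ := Ideal.Quotient.mk_surjective y
    obtain ⟨z, rfl⟩ := hφsurj y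
    exact ⟨z, rfl⟩
  have hADm : (maximalIdeal D).comap (algebraMap A D) = maximalIdeal A :=
    ((local_hom_TFAE (algebraMap A D)).out 0 4).1 ‹_›
  have hJA : ∀ a : A, a ∈ maximalIdeal A → algebraMap A A' a ∈ Ideal.jacobson (⊥ : Ideal A') := fun a ha => by
    haveI : Algebra.IsIntegral A A' := Algebra.IsIntegral.of_finite A A'
    refine Ideal.mem_sInf.2 fun {n} hn => ?_
    haveI := hn.2
    have h := eq_maximalIdeal (Ideal.isMaximal_comap_of_isIntegral_of_isMaximal (R := A) n)
    rw [← h] at ha
    exact ha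
  let R := A' ⧸ Ideal.jacobson (⊥ : Ideal A')
  letI : CommRing R := Ideal.Quotient.commRing _
  haveI : IsReduced R := (Ideal.isRadical_iff_quotient_reduced _).1 (Ideal.isRadical_jacobson _)
  let π : A' ⊗[A] D →ₐ[A] R ⊗[A] D :=
    Algebra.TensorProduct.map (Ideal.Quotient.mkₐ A (Ideal.jacobson (⊥ : Ideal A'))) (AlgHom.id A D)
  let I : Ideal (A' ⊗[A] D) := (Ideal.jacobson (⊥ : Ideal A')).map
      (Algebra.TensorProduct.includeLeft : A' →ₐ[A] A' ⊗[A] D) ⊔
    (maximalIdeal D).map (Algebra.TensorProduct.includeRight : D →ₐ[A] A' ⊗[A] D)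
  have hπker : RingHom.ker π = I := by
    have hk : RingHom.ker π = (Ideal.jacobson (⊥ : Ideal A')).map
        (Algebra.TensorProduct.includeLeft : A' →ₐ[A] A' ⊗[A] D) := by
      refine (Algebra.TensorProduct.rTensor_ker (C := D) (Ideal.Quotient.mkₐ A _)
        Ideal.Quotient.mk_surjective).trans ?_
      rw [show RingHom.ker (Ideal.Quotient.mkₐ A (Ideal.jacobson (⊥ : Ideal A'))) = Ideal.jacobson ⊥ from
        Ideal.Quotient.mkₐ_ker A _]
    refine le_antisymm (hk.le.trans le_sup_left) (sup_le hk.ge ?_)
    rw [Ideal.map_le_iff_le_comap, ← hDm, Ideal.map_le_iff_le_comap]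
    intro a ha
    show π ((1 : A') ⊗ₜ algebraMap A D a) = 0
    rw [Algebra.algebraMap_eq_smul_one, tmul_smul, map_smul]
    simp only [π, Algebra.TensorProduct.map_tmul, AlgHom.id_apply, smul_tmul']
    rw [← map_smul, ← Algebra.algebraMap_eq_smul_one,
      show Ideal.Quotient.mkₐ A (Ideal.jacobson (⊥ : Ideal A')) (algebraMap A A' a) = 0 from
        Ideal.Quotient.eq_zero_iff_mem.2 (hJA a ha), zero_tmul]
  haveI : IsReduced (R ⊗[A] D) := isReduced_tensor A S D R
  have hJmem : ∀ z, z ∈ RingHom.ker ((Ideal.Quotient.mkₐ A (Ideal.jacobson (⊥ : Ideal D'))).comp φ) ↔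
      φ z ∈ Ideal.jacobson (⊥ : Ideal D') := fun z => Ideal.Quotient.eq_zero_iff_mem
  show RingHom.ker ((Ideal.Quotient.mkₐ A (Ideal.jacobson (⊥ : Ideal D'))).comp φ) = I
  refine le_antisymm (fun z hz => ?_) ?_
  · have hrad : I.IsRadical := by
      rw [← hπker]
      exact fun x ⟨n, hn⟩ => IsNilpotent.eq_zero (⟨n, by rw [← map_pow]; exact hn⟩ : IsNilpotent (π x))
    rw [← hrad.radical, Ideal.radical_eq_sInf]
    refine Ideal.mem_sInf.2 fun {P} hP => ?_
    haveI := hP.2
    let e : (A' ⊗[A] D) ≃ₐ[A] D' := AlgEquiv.ofBijective φ ⟨hφinj, hφsurj⟩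
    have hN : ((P.comap e.symm.toRingEquiv.toRingHom) : Ideal D').IsMaximal := by
      haveI : ((P.comap e.symm.toRingEquiv.toRingHom) : Ideal D').IsPrime := Ideal.IsPrime.comap _
      refine Ideal.isMaximal_of_isIntegral_of_isMaximal_comap (R := D) _ ?_
      have h2 : ((P.comap e.symm.toRingEquiv.toRingHom) : Ideal D').comap (algebraMap D D') =
          P.comap (Algebra.TensorProduct.includeRight : D →ₐ[A] A' ⊗[A] D) := by
        ext d
        simp only [Ideal.mem_comap]
        rw [show (e.symm.toRingEquiv.toRingHom (algebraMap D D' d)) =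
          (Algebra.TensorProduct.includeRight : D →ₐ[A] A' ⊗[A] D) d from e.injective (by
            show e (e.symm (ι d)) = φ ((1 : A') ⊗ₜ d)
            rw [AlgEquiv.apply_symm_apply]
            simp [φ])]
      rw [h2]
      have hle2 : maximalIdeal D ≤ P.comap (Algebra.TensorProduct.includeRight : D →ₐ[A] A' ⊗[A] D) :=
        Ideal.map_le_iff_le_comap.1 (le_sup_right.trans hP.1)
      rw [← (maximalIdeal.isMaximal D).eq_of_le (Ideal.IsPrime.comap _).ne_top hle2]
      exact maximalIdeal.isMaximal D
    have := Ideal.mem_sInf.1 ((hJmem z).1 hz) (show _ ∈ _ from ⟨bot_le, hN⟩)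
    have h3 : e.symm (φ z) = z := e.symm_apply_apply z
    rw [← h3]
    exact this
  · refine sup_le (Ideal.map_le_iff_le_comap.2 fun a ha => ?_) (Ideal.map_le_iff_le_comap.2 fun d hd => ?_)
    · rw [Ideal.mem_comap, hJmem]
      refine Ideal.mem_sInf.2 fun {N} hN => ?_
      haveI := hN.2
      have hn : (N.comap (Subalgebra.inclusion hle)).IsMaximal := by
        haveI : (N.comap (Subalgebra.inclusion hle)).IsPrime := Ideal.IsPrime.comap _
        haveI : Algebra.IsIntegral A A' := Algebra.IsIntegral.of_finite A A'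
        refine Ideal.isMaximal_of_isIntegral_of_isMaximal_comap (R := A) _ ?_
        have h4 : (N.comap (Subalgebra.inclusion hle)).comap (algebraMap A A') = maximalIdeal A := by
          rw [← hADm, ← hNm N hN.2]
          ext a
          simp only [Ideal.mem_comap, AlgHom.commutes]
        rw [h4]
        exact maximalIdeal.isMaximal A
      have := Ideal.mem_sInf.1 ha (show _ ∈ _ from ⟨bot_le, hn⟩)
      simpa [φ] using this
    · rw [Ideal.mem_comap, hJmem]
      refine Ideal.mem_sInf.2 fun {N} hN => ?_
      have h5 : ι d ∈ N := by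
        rw [← Ideal.mem_comap, hNm N hN.2]; exact hd
      simpa [φ] using h5

/-- An essentially étale local intermediate ring satisfies the residual criterion. -/
theorem residual_of_isEssentiallyEtale
    (A S : Type u) [CommRing A] [IsLocalRing A] [IsReduced A] (hA : EGA4.IsExcellent A)
    [CommRing S] [IsLocalRing S] [Algebra A S] [IsLocalHom (algebraMap A S)]
    [Hensel.IsStrictHenselization A S] (D : Subalgebra A S) [IsLocalRing D]
    [IsLocalHom (algebraMap D S)]
    (A' D' : Subalgebra A (FractionRing S))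
    (hA' : ∀ x : (FractionRing S), x ∈ A' ↔ (IsIntegral A x ∧
      ∃ a ∈ nonZeroDivisors A, ∃ b : A, algebraMap A (FractionRing S) a * x = algebraMap A (FractionRing S) b))
    (hD' : ∀ x : (FractionRing S), x ∈ D' ↔ (IsIntegral D x ∧
      ∃ a ∈ nonZeroDivisors A, ∃ d ∈ D, algebraMap A (FractionRing S) a * x = algebraMap S (FractionRing S) d))
    (hle : A' ≤ D') (ι : D →ₐ[A] D') (hι : ∀ d : D, (ι d : (FractionRing S)) = algebraMap S (FractionRing S) d)
    (hE : EGA4loc.IsEssentiallyEtale A D) :
    ({N : Ideal D' | N.IsMaximal}.Finite ∧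
        Function.Surjective ((Ideal.Quotient.mkₐ A (Ideal.jacobson (⊥ : Ideal D'))).comp
          (Algebra.TensorProduct.productMap (Subalgebra.inclusion hle) ι)) ∧
        RingHom.ker ((Ideal.Quotient.mkₐ A (Ideal.jacobson (⊥ : Ideal D'))).comp
          (Algebra.TensorProduct.productMap (Subalgebra.inclusion hle) ι)) =
          (Ideal.jacobson (⊥ : Ideal A')).map
              (Algebra.TensorProduct.includeLeft : A' →ₐ[A] A' ⊗[A] D) ⊔
            (maximalIdeal D).map
              (Algebra.TensorProduct.includeRight : D →ₐ[A] A' ⊗[A] D)) := by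
  haveI := faithfullyFlat_essEtale A S D hE
  exact residual_of_faithfullyFlat A S hA D A' D' hA' hD' hle ι hι

/-- The residual criterion implies being essentially étale. -/
theorem isEssentiallyEtale_of_residual
    (A S : Type u) [CommRing A] [IsLocalRing A] [IsReduced A] (hA : EGA4.IsExcellent A)
    [CommRing S] [IsLocalRing S] [Algebra A S] [IsLocalHom (algebraMap A S)]
    [Hensel.IsStrictHenselization A S] (D : Subalgebra A S) [IsLocalRing D]
    [IsLocalHom (algebraMap D S)]
    (hfg : ∃ t : Finset (FractionRing D), ∀ x : FractionRing D, ∃ a ∈ nonZeroDivisors A,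
      algebraMap A (FractionRing D) a * x ∈ Algebra.adjoin A (t : Set (FractionRing D)))
    (A' D' : Subalgebra A (FractionRing S))
    (hA' : ∀ x : (FractionRing S), x ∈ A' ↔ (IsIntegral A x ∧
      ∃ a ∈ nonZeroDivisors A, ∃ b : A, algebraMap A (FractionRing S) a * x = algebraMap A (FractionRing S) b))
    (hD' : ∀ x : (FractionRing S), x ∈ D' ↔ (IsIntegral D x ∧
      ∃ a ∈ nonZeroDivisors A, ∃ d ∈ D, algebraMap A (FractionRing S) a * x = algebraMap S (FractionRing S) d))
    (hle : A' ≤ D') (ι : D →ₐ[A] D') (hι : ∀ d : D, (ι d : (FractionRing S)) = algebraMap S (FractionRing S) d)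
    (hfin : {N : Ideal D' | N.IsMaximal}.Finite)
    (hres : Function.Surjective ((Ideal.Quotient.mkₐ A (Ideal.jacobson (⊥ : Ideal D'))).comp
      (Algebra.TensorProduct.productMap (Subalgebra.inclusion hle) ι))) :
    EGA4loc.IsEssentiallyEtale A D := by
  classical
  haveI : IsNoetherianRing A := hA.1
  have hmin : (minimalPrimes A).Finite := minimalPrimes.finite_of_isNoetherianRing A
  obtain ⟨E, hDE, _, hE⟩ := (S16441.result A S hmin D).1 hfg
  haveI : IsLocalHom (algebraMap A E) := EssEtLib.isLocalHom_algebraMap hE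
  obtain ⟨-, -, hKE, huE, -⟩ := fractionRing_setup A E hE
  let KS := FractionRing S
  let KE := FractionRing E
  have hu : ∀ a : A⁰, IsUnit (algebraMap A KS a) := isUnit_nzd_strict A S
  have hEu : ∀ y : (A⁰).map (algebraMap A E), IsUnit (algebraMap E KS (y : E)) := by
    rintro ⟨_, a, ha, rfl⟩
    show IsUnit (algebraMap E KS (algebraMap A E a))
    rw [← IsScalarTower.algebraMap_apply A E KS]
    exact hu ⟨a, ha⟩
  haveI := hKE
  let j : KE →+* KS := IsLocalization.lift (M := (A⁰).map (algebraMap A E)) (S := KE) (g := algebraMap E KS) hEu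
  have hjE : ∀ e : E, j (algebraMap E KE e) = algebraMap E KS e := fun e => IsLocalization.lift_eq _ e
  have hjA : ∀ a : A, j (algebraMap A KE a) = algebraMap A KS a := fun a => by
    rw [IsScalarTower.algebraMap_apply A E KE, hjE, ← IsScalarTower.algebraMap_apply]
  have hjinj : Function.Injective j := by
    refine (injective_iff_map_eq_zero j).2 fun x hx => ?_
    obtain ⟨e, s, rfl⟩ := IsLocalization.exists_mk'_eq ((A⁰).map (algebraMap A E)) x
    have h0 : algebraMap E KS e = 0 := by
      rw [← hjE, ← IsLocalization.mk'_spec KE e s, map_mul, hx, zero_mul]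
    have he : e = 0 := Subtype.ext (IsFractionRing.injective S KS (h0.trans (map_zero _).symm))
    rw [he, IsLocalization.mk'_zero]
  let jA : KE →ₐ[A] KS := { j with commutes' := hjA }
  let DE : Subalgebra A E := D.comap E.val
  let eD : DE ≃ₐ[A] D :=
    AlgEquiv.ofBijective ((E.val.comp DE.val).codRestrict D fun d => d.2)
      ⟨fun x y h => Subtype.ext (Subtype.ext (congrArg (fun z : D => (z : S)) h)),
        fun d => ⟨⟨⟨(d : S), hDE d.2⟩, d.2⟩, Subtype.ext rfl⟩⟩
  have heD : ∀ d : DE, ((eD d : D) : S) = ((d : E) : S) := fun d => rfl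
  haveI : IsLocalRing DE := eD.symm.toRingEquiv.isLocalRing
  haveI : IsLocalHom (algebraMap DE E) := ⟨fun d hd => by
    have h1 : IsUnit (algebraMap D S (eD d)) := hd.map E.val
    have h2 : IsUnit (eD d) := (isUnit_map_iff (algebraMap D S) _).1 h1
    simpa using h2.map eD.symm⟩
  let A'E : Subalgebra A KE := A'.comap jA
  let D'E : Subalgebra A KE := D'.comap jA
  have hjDE : ∀ d : DE, j (algebraMap DE KE d) = algebraMap D KS (eD d) := fun d => hjE d
  have hA'E : ∀ x : KE, x ∈ A'E ↔ (IsIntegral A x ∧
      ∃ a ∈ A⁰, ∃ b : A, algebraMap A KE a * x = algebraMap A KE b) := fun x => by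
    show jA x ∈ A' ↔ _
    rw [hA', isIntegral_algHom_iff jA hjinj]
    refine and_congr Iff.rfl (exists_congr fun a => and_congr_right fun _ => exists_congr fun b => ?_)
    rw [← hjA a, ← hjA b]
    exact ⟨fun h => hjinj (by rw [map_mul]; exact h), fun h => by rw [← h, map_mul]; rfl⟩
  have hD'E : ∀ x : KE, x ∈ D'E ↔ (IsIntegral DE x ∧
      ∃ a ∈ A⁰, ∃ d ∈ DE, algebraMap A KE a * x = algebraMap E KE d) := fun x => by
    show jA x ∈ D' ↔ _
    rw [hD', isIntegral_iff_of_ringEquiv eD.toRingEquiv j hjinj hjDE x]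
    refine and_congr Iff.rfl (exists_congr fun a => and_congr_right fun _ => ⟨?_, ?_⟩)
    · rintro ⟨d, hd, h⟩
      refine ⟨⟨d, hDE hd⟩, hd, hjinj ?_⟩
      rw [map_mul, hjA, hjE]
      exact h
    · rintro ⟨d, hd, h⟩
      refine ⟨(d : S), hd, ?_⟩
      have := congrArg j h
      rw [map_mul, hjA, hjE] at this
      exact this
  have hrange : ∀ y : D', ∃ x : D'E, jA x = (y : KS) := fun y => by
    obtain ⟨-, a, ha, d, hd, h⟩ := (hD' y).1 y.2
    have hx : jA (IsLocalization.mk' KE (⟨d, hDE hd⟩ : E) (⟨_, a, ha, rfl⟩ : (A⁰).map (algebraMap A E))) = (y : KS) := by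
      refine (hu ⟨a, ha⟩).mul_left_cancel ?_
      rw [h, ← hjA]
      show j _ * j _ = _
      rw [← map_mul, IsScalarTower.algebraMap_apply A E KE, mul_comm]
      show j (_ * algebraMap E KE ((⟨_, a, ha, rfl⟩ : (A⁰).map (algebraMap A E)) : E)) = _
      rw [IsLocalization.mk'_spec, hjE]
      rfl
    exact ⟨⟨IsLocalization.mk' KE (⟨d, hDE hd⟩ : E) (⟨_, a, ha, rfl⟩ : (A⁰).map (algebraMap A E)),
      show jA _ ∈ D' from Set.mem_of_eq_of_mem hx y.2⟩, hx⟩
  let eD' : D'E ≃ₐ[A] D' :=
    AlgEquiv.ofBijective ((jA.comp D'E.val).codRestrict D' fun x => x.2)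
      ⟨fun x y h => Subtype.ext (hjinj (congrArg Subtype.val h)),
        fun y => (hrange y).imp fun x hx => Subtype.ext hx⟩
  have heD' : ∀ x : D'E, (eD' x : KS) = j (x : KE) := fun x => rfl
  have hleE : A'E ≤ D'E := fun x hx => hle hx
  let ιE : DE →ₐ[A] D'E := eD'.symm.toAlgHom.comp (ι.comp eD.toAlgHom)
  have hιE : ∀ d : DE, (ιE d : KE) = algebraMap E KE d := fun d => hjinj (by
    rw [← heD', hjE]
    show (eD' (eD'.symm (ι (eD d))) : KS) = _
    rw [AlgEquiv.apply_symm_apply, hι]
    rfl)
  have hA'r : ∀ a : A', ∃ b : A'E, jA b = (a : KS) := fun a => by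
    obtain ⟨x, hx⟩ := hrange (Subalgebra.inclusion hle a)
    exact ⟨⟨x, show jA x ∈ A' from Set.mem_of_eq_of_mem hx a.2⟩, hx⟩
  have hresE : Function.Surjective ((Ideal.Quotient.mkₐ A (Ideal.jacobson (⊥ : Ideal D'E))).comp
      (Algebra.TensorProduct.productMap (Subalgebra.inclusion hleE) ιE)) := by
    intro y
    obtain ⟨y, rfl⟩ := Ideal.Quotient.mk_surjective y
    obtain ⟨w, hw⟩ := hres (Ideal.Quotient.mk _ (eD' y))
    have hlift : ∀ w : A' ⊗[A] D, ∃ v : A'E ⊗[A] DE,
        eD' (Algebra.TensorProduct.productMap (Subalgebra.inclusion hleE) ιE v) =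
          Algebra.TensorProduct.productMap (Subalgebra.inclusion hle) ι w := by
      intro w
      induction w with
      | zero => exact ⟨0, by simp⟩
      | add x y hx hy =>
        obtain ⟨u, hu⟩ := hx
        obtain ⟨v, hv⟩ := hy
        exact ⟨u + v, by rw [map_add, map_add, map_add, hu, hv]⟩
      | tmul a d =>
        obtain ⟨b, hb⟩ := hA'r a
        refine ⟨b ⊗ₜ eD.symm d, ?_⟩
        simp only [Algebra.TensorProduct.productMap_apply_tmul, map_mul]
        congr 1
        · exact Subtype.ext hb
        · show eD' (eD'.symm (ι (eD (eD.symm d)))) = ι d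
          rw [AlgEquiv.apply_symm_apply, AlgEquiv.apply_symm_apply]
    obtain ⟨v, hv⟩ := hlift w
    refine ⟨v, Ideal.Quotient.eq.2 ?_⟩
    have h : eD' (Algebra.TensorProduct.productMap (Subalgebra.inclusion hleE) ιE v - y) ∈
        Ideal.jacobson (⊥ : Ideal D') := by
      rw [map_sub, hv]
      exact Ideal.Quotient.eq.1 hw
    rw [Ideal.mem_jacobson_bot] at h ⊢
    intro z
    simpa using (h (eD' z)).map eD'.symm
  have hfinE : {N : Ideal D'E | N.IsMaximal}.Finite := by
    refine (hfin.image fun N : Ideal D' => N.comap eD'.toRingEquiv.toRingHom).subset fun N hN => ?_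
    haveI : N.IsMaximal := hN
    refine ⟨N.comap eD'.symm.toRingEquiv.toRingHom,
      Ideal.comap_isMaximal_of_surjective _ eD'.symm.surjective, ?_⟩
    ext x
    simp
  have hD'E' : D'E ≤ (integralClosure E KE).restrictScalars A := fun x hx =>
    IsIntegral.tower_top (R := DE) ((hD'E x).1 hx).1
  obtain ⟨hsurjE, hmapE⟩ := residual_criterion A E hE DE A'E D'E hA'E hD'E hleE hD'E' ιE hιE hresE
  haveI := essFiniteType_of_semilocal A E hA hE DE D'E hD'E hD'E' hfinE hsurjE
  haveI : Algebra.EssFiniteType A D := (Algebra.EssFiniteType.iff_of_algEquiv eD).1 inferInstance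
  refine S16438.result A S D ?_
  have h := congrArg (Ideal.map eD.toRingEquiv.toRingHom) hmapE
  rw [Ideal.map_map] at h
  rw [show eD.toRingEquiv.toRingHom.comp (algebraMap A DE) = algebraMap A D from RingHom.ext eD.commutes] at h
  rw [h]
  exact eq_maximalIdeal (Ideal.map_isMaximal_of_equiv eD.toRingEquiv)

end Groth.Agent.NormSemi5
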