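import Groth.Agent.NormSemi5.Residue
import Groth.Agent.EssEtFrac5.Sub
import Groth.Agent.EssEtLib.LocalHom
import Groth.Agent.Hensel.HenselizationProps

/-!
# Intermediate rings of a strict henselization: flatness from the residual criterion
-/

set_option autoImplicit false
set_option linter.style.haveILetI false
set_option maxHeartbeats 1000000
set_option synthInstance.maxHeartbeats 100000
set_option backward.isDefEq.respectTransparency false
set_option backward.isDefEq.respectTransparency.types false

universe u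

open IsLocalRing TensorProduct
open scoped nonZeroDivisors

namespace Groth.Agent.NormSemi5

/-- Non-zero-divisors of the base become units in the total fraction ring of a strict henselization. -/
theorem isUnit_nzd_strict (A S : Type u) [CommRing A] [IsLocalRing A] [CommRing S] [IsLocalRing S] [Algebra A S]
    [IsLocalHom (algebraMap A S)] [Hensel.IsStrictHenselization A S] (a : A⁰) :
    IsUnit (algebraMap A (FractionRing S) a) := by
  haveI : Module.Flat A S := HenselConn.flat_strict A S
  rw [IsScalarTower.algebraMap_apply A S (FractionRing S)]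
  refine IsLocalization.map_units (FractionRing S) (⟨algebraMap A S a, mem_nonZeroDivisors_iff_right.2 fun y hy => ?_⟩ : S⁰)
  refine Module.Flat.isSMulRegular_of_nonZeroDivisors (M := S) a.2 ?_
  show (a : A) • y = (a : A) • (0 : S)
  rw [smul_zero, Algebra.smul_def, mul_comm]
  exact hy

/-- Purity: a faithfully flat extension stays injective after base change from a smaller ring. -/
theorem injective_rTensor_of_faithfullyFlat {A D S : Type u} [CommRing A] [CommRing D] [CommRing S] [Algebra A D]
    [Algebra A S] [Algebra D S] [IsScalarTower A D S] [Module.FaithfullyFlat D S]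
    (M : Type u) [AddCommGroup M] [Module A M] :
    Function.Injective ((IsScalarTower.toAlgHom A D S).toLinearMap.rTensor M) := by
  have h : ⇑((IsScalarTower.toAlgHom A D S).toLinearMap.rTensor M) =
      ⇑(TensorProduct.AlgebraTensorModule.cancelBaseChange A D D S M) ∘ TensorProduct.mk D S (D ⊗[A] M) 1 := by
    funext x
    induction x with
    | zero => simp
    | add x y hx hy =>
      rw [map_add, hx, hy]
      simp only [Function.comp_apply, map_add]
    | tmul d m => simp [Algebra.smul_def]
  rw [h]
  exact (TensorProduct.AlgebraTensorModule.cancelBaseChange A D D S M).injective.comp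
    (Module.FaithfullyFlat.tensorProduct_mk_injective _)

/-- Flatness descends along a faithfully flat extension. -/
theorem flat_of_faithfullyFlat (A D S : Type u) [CommRing A] [CommRing D] [CommRing S] [Algebra A D]
    [Algebra A S] [Algebra D S] [IsScalarTower A D S] [Module.FaithfullyFlat D S] [Module.Flat A S] :
    Module.Flat A D := by
  rw [Module.Flat.iff_lTensor_preserves_injective_linearMap]
  intro N N' _ _ _ _ f hf x y hxy
  apply injective_rTensor_of_faithfullyFlat (A := A) (D := D) (S := S) N
  apply Module.Flat.lTensor_preserves_injective_linearMap (M := S) f hf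
  rw [← LinearMap.comp_apply, ← LinearMap.comp_apply, LinearMap.lTensor_comp_rTensor,
    ← LinearMap.rTensor_comp_lTensor, LinearMap.comp_apply, LinearMap.comp_apply, hxy]

/-- Flatness over a ring can be checked on approximating rings. -/
theorem flat_of_exists_stage {R S : Type u} [CommRing R] [CommRing S] [Algebra R S]
    (h : ∀ s : Finset R, ∃ (R₀ : Type u) (_ : CommRing R₀) (_ : Algebra R₀ S) (φ : R₀ →+* R),
      (∀ r, algebraMap R S (φ r) = algebraMap R₀ S r) ∧ (∀ x ∈ s, x ∈ φ.range) ∧ Module.Flat R₀ S) :
    Module.Flat R S := by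
  classical
  refine Module.Flat.iff_forall_isTrivialRelation.2 fun {l f x} hfx => ?_
  obtain ⟨R₀, _, _, φ, hφ, hs, _⟩ := h (Finset.univ.image f)
  choose g hg using fun i => hs (f i) (Finset.mem_image_of_mem f (Finset.mem_univ i))
  have hfx' : ∑ i, g i • x i = 0 := by
    refine Eq.trans (Finset.sum_congr rfl fun i _ => ?_) hfx
    rw [Algebra.smul_def, Algebra.smul_def, ← hg, hφ]
  obtain ⟨k, a, y, hy, ha⟩ := Module.Flat.isTrivialRelation_of_sum_smul_eq_zero (R := R₀) (M := S) hfx'
  refine ⟨k, fun i j => φ (a i j), y, fun i => ?_, fun j => ?_⟩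
  · rw [hy i]
    exact Finset.sum_congr rfl fun j _ => by rw [Algebra.smul_def, Algebra.smul_def, hφ]
  · have := congrArg φ (ha j)
    rw [map_sum, map_zero] at this
    refine Eq.trans (Finset.sum_congr rfl fun i _ => ?_) this
    rw [map_mul, hg]

variable (A S : Type u) [CommRing A] [IsLocalRing A] [CommRing S] [IsLocalRing S] [Algebra A S]
  [IsLocalHom (algebraMap A S)] [Hensel.IsStrictHenselization A S]

/-- A strict henselization is faithfully flat over an essentially étale local subalgebra. -/
theorem faithfullyFlat_essEtale (E : Subalgebra A S) [IsLocalRing E] (hE : EGA4loc.IsEssentiallyEtale A E) :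
    Module.FaithfullyFlat E S := by
  haveI : IsLocalHom (algebraMap A E) := EssEtLib.isLocalHom_algebraMap hE
  haveI : Module.Flat A S := HenselConn.flat_strict A S
  haveI := EtAlg7.formallyUnramified hE
  haveI := EtAlg7.essFiniteType hE
  haveI : Module.Flat E S := Algebra.FormallyUnramified.flat_of_restrictScalars A E S
  haveI : IsLocalHom (algebraMap E S) := EtAlg7.isLocalHom_algHom hE E.val
  exact Module.FaithfullyFlat.of_flat_of_isLocalHom

/-- The kernel to the total fraction ring is killed by an element mapping to one. -/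
theorem exists_idempotent_kill [IsReduced A] [IsNoetherianRing A] (D : Subalgebra A S)
    (D' : Subalgebra A (FractionRing S))
    (hD' : ∀ x : (FractionRing S), x ∈ D' ↔ (IsIntegral D x ∧
      ∃ a ∈ nonZeroDivisors A, ∃ d ∈ D, algebraMap A (FractionRing S) a * x = algebraMap S (FractionRing S) d))
    (z : S ⊗[A] D')
    (hz : Algebra.TensorProduct.lift (Algebra.ofId S (FractionRing S)) D'.val (fun _ _ => Commute.all _ _) z = 0) :
    ∃ ε : S ⊗[A] D', Algebra.TensorProduct.lift (Algebra.ofId S (FractionRing S)) D'.val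
        (fun _ _ => Commute.all _ _) ε = 1 ∧ z * ε = 0 := by
  classical
  let KS := FractionRing S
  obtain ⟨P, hP⟩ := TensorProduct.exists_finset z
  choose aa ha dd hd hdd using fun y : D' => ((hD' _).1 y.2).2
  obtain ⟨E, hTE, _, hE, -⟩ := EssEtFrac5.exists_essEtale_containing (A := A) S
    (P.image Prod.fst ∪ P.image fun p => dd p.2)
  haveI : IsLocalHom (algebraMap A E) := EssEtLib.isLocalHom_algebraMap hE
  obtain ⟨hArt, hred, hKE, huE, hfinE⟩ := fractionRing_setup A E hE
  haveI := hArt
  haveI := hred
  obtain ⟨C₀, _, _, q₀, _, _, _, hC₀, -, hl⟩ := EtAlg7.exists_presentation hE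
  have hu : ∀ a : A⁰, IsUnit (algebraMap A KS a) := isUnit_nzd_strict A S
  let KE := FractionRing E
  have hEu : ∀ y : (A⁰).map (algebraMap A E), IsUnit (algebraMap E KS (y : E)) := by
    rintro ⟨_, a, ha, rfl⟩
    show IsUnit (algebraMap E KS (algebraMap A E a))
    rw [← IsScalarTower.algebraMap_apply A E KS]
    exact hu ⟨a, ha⟩
  haveI := hKE
  let j : KE →+* KS := IsLocalization.lift (M := (A⁰).map (algebraMap A E)) (S := KE) (g := algebraMap E KS) hEu
  have hjE : ∀ e : E, j (algebraMap E KE e) = algebraMap E KS e := fun e => IsLocalization.lift_eq _ e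
  have hjA : ∀ a : A, j (algebraMap A KE a) = algebraMap A KS a := fun a => by
    rw [IsScalarTower.algebraMap_apply A E KE, hjE, ← IsScalarTower.algebraMap_apply]
  have hjinj : Function.Injective j := by
    refine (injective_iff_map_eq_zero j).2 fun x hx => ?_
    obtain ⟨e, s, rfl⟩ := IsLocalization.exists_mk'_eq ((A⁰).map (algebraMap A E)) x
    have h0 : algebraMap E KS e = 0 := by
      rw [← hjE, ← IsLocalization.mk'_spec KE e s, map_mul, hx, zero_mul]
    have he : e = 0 := Subtype.ext (IsFractionRing.injective S KS (h0.trans (map_zero _).symm))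
    rw [he, IsLocalization.mk'_zero]
  let jA : KE →ₐ[A] KS := { j with commutes' := hjA }
  let B : Subalgebra A KE := D'.comap jA
  let L : Subalgebra A KE :=
    { carrier := {x | ∃ a ∈ A⁰, ∃ d ∈ D, algebraMap A KS a * jA x = algebraMap S KS d}
      mul_mem' := by
        rintro x y ⟨a, ha, d, hd, hx⟩ ⟨b, hb, e, he, hy⟩
        refine ⟨a * b, mul_mem ha hb, d * e, mul_mem hd he, ?_⟩
        rw [map_mul, map_mul, map_mul, ← hx, ← hy]
        ring
      add_mem' := by
        rintro x y ⟨a, ha, d, hd, hx⟩ ⟨b, hb, e, he, hy⟩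
        refine ⟨a * b, mul_mem ha hb, algebraMap A S b * d + algebraMap A S a * e,
          add_mem (mul_mem (D.algebraMap_mem b) hd) (mul_mem (D.algebraMap_mem a) he), ?_⟩
        rw [map_mul, map_add, map_add, map_mul, map_mul, ← hx, ← hy, ← IsScalarTower.algebraMap_apply A S KS,
          ← IsScalarTower.algebraMap_apply A S KS]
        ring
      algebraMap_mem' := fun a => ⟨1, one_mem _, _, D.algebraMap_mem a, by
        rw [map_one, one_mul, AlgHom.commutes, ← IsScalarTower.algebraMap_apply A S KS]⟩ }
  have hL : ∀ a ∈ A⁰, ∃ y ∈ L, algebraMap A KE a * y = 1 := fun a ha =>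
    ⟨↑(huE ⟨a, ha⟩).unit⁻¹, ⟨a, ha, 1, one_mem _, by
      have h := congrArg jA (huE ⟨a, ha⟩).mul_val_inv
      rw [map_mul, map_one, AlgHom.commutes] at h
      rw [map_one]
      exact h⟩, (huE ⟨a, ha⟩).mul_val_inv⟩
  obtain ⟨ε0, -, hε1, hε0⟩ := exists_idempotent_mem (E := E) huE hfinE q₀.primeCompl L hL B
    (fun x hx => ((hD' (jA x)).1 hx).2)
    (fun x hxL hx => (hD' (jA x)).2 ⟨IsIntegral.tower_top (hx.map jA), hxL⟩)
  let μ : S ⊗[A] D' →ₐ[S] KS := Algebra.TensorProduct.lift (Algebra.ofId S KS) D'.val fun _ _ => Commute.all _ _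
  let μE : E ⊗[A] B →ₐ[E] KE := Algebra.TensorProduct.lift (Algebra.ofId E KE) B.val fun _ _ => Commute.all _ _
  let Φ : E ⊗[A] B →ₐ[A] S ⊗[A] D' :=
    Algebra.TensorProduct.map E.val ((jA.comp B.val).codRestrict D' fun x => x.2)
  have hcomm : ∀ w, j (μE w) = μ (Φ w) := by
    intro w
    induction w with
    | zero => simp
    | add x y hx hy => simp only [map_add, hx, hy]
    | tmul e y =>
      simp [μ, μE, Φ, hjE]
      rfl
  have hpre : ∀ p ∈ P, ∃ w : E ⊗[A] B, Φ w = p.1 ⊗ₜ p.2 := by
    intro p hp
    have h1 : p.1 ∈ E := hTE _ (Finset.mem_union_left _ (Finset.mem_image_of_mem _ hp))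
    have h2 : dd p.2 ∈ E := hTE _ (Finset.mem_union_right _ (Finset.mem_image_of_mem _ hp))
    let xE : KE := IsLocalization.mk' KE (⟨dd p.2, h2⟩ : E)
      (⟨_, aa p.2, ha p.2, rfl⟩ : (A⁰).map (algebraMap A E))
    have hx : jA xE = (p.2 : KS) := by
      refine (hu ⟨aa p.2, ha p.2⟩).mul_left_cancel ?_
      rw [hdd p.2, ← hjA]
      show j _ * j _ = _
      rw [← map_mul, IsScalarTower.algebraMap_apply A E KE, mul_comm]
      show j (_ * algebraMap E KE ((⟨_, aa p.2, ha p.2, rfl⟩ : (A⁰).map (algebraMap A E)) : E)) = _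
      rw [IsLocalization.mk'_spec, hjE]
      rfl
    exact ⟨(⟨p.1, h1⟩ : E) ⊗ₜ (⟨xE, show jA xE ∈ D' from Set.mem_of_eq_of_mem hx p.2.2⟩ : B), by
      simp only [Φ, Algebra.TensorProduct.map_tmul]
      exact congrArg (p.1 ⊗ₜ[A] ·) (Subtype.ext hx)⟩
  choose w hw using hpre
  let z0 : E ⊗[A] B := ∑ p ∈ P.attach, w p.1 p.2
  have hz0 : Φ z0 = z := by
    rw [map_sum, hP]
    refine Eq.trans (Finset.sum_congr rfl fun p _ => hw p.1 p.2) ?_
    exact Finset.sum_attach P fun p : S × D' => p.1 ⊗ₜ[A] p.2
  have hμ0 : μE z0 = 0 := hjinj (by rw [hcomm, hz0, map_zero]; exact hz)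
  refine ⟨Φ ε0, ?_, ?_⟩
  · show μ (Φ ε0) = 1
    rw [← hcomm, show μE ε0 = 1 from hε1, map_one]
  · rw [← hz0, ← map_mul, hε0 z0 hμ0, map_zero]

/-- The residual criterion forces the strict henselization to be faithfully flat over the intermediate ring. -/
theorem faithfullyFlat_of_residual [IsReduced A] [IsNoetherianRing A] (D : Subalgebra A S) [IsLocalRing D]
    [IsLocalHom (algebraMap D S)]
    (A' D' : Subalgebra A (FractionRing S))
    (hA' : ∀ x : (FractionRing S), x ∈ A' ↔ (IsIntegral A x ∧
      ∃ a ∈ nonZeroDivisors A, ∃ b : A, algebraMap A (FractionRing S) a * x = algebraMap A (FractionRing S) b))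
    (hD' : ∀ x : (FractionRing S), x ∈ D' ↔ (IsIntegral D x ∧
      ∃ a ∈ nonZeroDivisors A, ∃ d ∈ D, algebraMap A (FractionRing S) a * x = algebraMap S (FractionRing S) d))
    (hle : A' ≤ D') (ι : D →ₐ[A] D') (hι : ∀ d : D, (ι d : (FractionRing S)) = algebraMap S (FractionRing S) d)
    (hres : Function.Surjective ((Ideal.Quotient.mkₐ A (Ideal.jacobson (⊥ : Ideal D'))).comp
      (Algebra.TensorProduct.productMap (Subalgebra.inclusion hle) ι))) :
    Module.FaithfullyFlat D S := by
  haveI : Module.Flat A S := HenselConn.flat_strict A S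
  exact (residual_core (isUnit_nzd_strict A S) (IsFractionRing.injective S (FractionRing S))
    (Hensel.map_maximalIdeal_of_isStrictHenselization A S) D A' D' hA' hD' hle
    (fun x hx => IsIntegral.tower_top (R := D) ((hD' x).1 hx).1) ι hι hres
    fun z hz => exists_idempotent_kill A S D D' hD' z hz).2.1

/-- Reducedness of a base change to a ring over which the strict henselization is faithfully flat. -/
theorem isReduced_tensor (D : Subalgebra A S) [Module.FaithfullyFlat D S]
    (R : Type u) [CommRing R] [Algebra A R] [IsReduced R] : IsReduced (R ⊗[A] D) := by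
  classical
  refine ⟨fun x hx => ?_⟩
  let f : R ⊗[A] D →ₐ[A] R ⊗[A] S := Algebra.TensorProduct.map (AlgHom.id A R) (IsScalarTower.toAlgHom A D S)
  have hf : Function.Injective f := by
    have h : ⇑f = (TensorProduct.comm A S R) ∘
        ((IsScalarTower.toAlgHom A D S).toLinearMap.rTensor R) ∘ (TensorProduct.comm A R D) := by
      funext y
      induction y with
      | zero => simp
      | add p q hp hq =>
        rw [map_add, hp, hq]
        simp only [Function.comp_apply, map_add]
      | tmul r d => simp [f]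
    rw [h]
    exact (TensorProduct.comm A S R).injective.comp
      ((injective_rTensor_of_faithfullyFlat R).comp (TensorProduct.comm A R D).injective)
  refine hf (Eq.trans ?_ (map_zero f).symm)
  obtain ⟨P, hP⟩ := TensorProduct.exists_finset (f x)
  obtain ⟨E, hTE, _, hE, hff⟩ := EssEtFrac5.exists_essEtale_containing (A := A) S (P.image Prod.snd)
  haveI := hff
  obtain ⟨C₀, _, _, q₀, _, _, _, hC₀, -, hl⟩ := EtAlg7.exists_presentation hE
  haveI : IsReduced (R ⊗[A] C₀) := Hensel.isReduced_of_etale R (R ⊗[A] C₀)
  letI : Algebra (R ⊗[A] C₀) (R ⊗[A] E) :=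
    (Algebra.TensorProduct.map (AlgHom.id R R) (IsScalarTower.toAlgHom A C₀ E)).toRingHom.toAlgebra
  haveI : IsScalarTower R (R ⊗[A] C₀) (R ⊗[A] E) :=
    IsScalarTower.of_algebraMap_eq (R := R) (S := R ⊗[A] C₀) (A := R ⊗[A] E) fun r => by
      show r ⊗ₜ[A] (1 : E) = Algebra.TensorProduct.map (AlgHom.id R R) (IsScalarTower.toAlgHom A C₀ E) (r ⊗ₜ (1 : C₀))
      simp
  haveI : IsLocalization (q₀.primeCompl.map (Algebra.TensorProduct.includeRight (R := A) (A := R) (B := C₀)))
      (R ⊗[A] E) := IsLocalization.tensorProduct_tensorProduct_right A R q₀.primeCompl E (by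
        ext c
        simp [RingHom.algebraMap_toAlgebra])
  haveI : IsReduced (R ⊗[A] E) := isReduced_localizationPreserves
    (q₀.primeCompl.map (Algebra.TensorProduct.includeRight (R := A) (A := R) (B := C₀))) (R ⊗[A] E) inferInstance
  let g : R ⊗[A] E →ₐ[A] R ⊗[A] S := Algebra.TensorProduct.map (AlgHom.id A R) E.val
  have hg : Function.Injective g := by
    have h : ⇑g = (TensorProduct.comm A S R) ∘
        ((IsScalarTower.toAlgHom A E S).toLinearMap.rTensor R) ∘ (TensorProduct.comm A R E) := by
      funext y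
      induction y with
      | zero => simp
      | add p q hp hq =>
        rw [map_add, hp, hq]
        simp only [Function.comp_apply, map_add]
      | tmul r d => simp [g]
    rw [h]
    exact (TensorProduct.comm A S R).injective.comp
      ((injective_rTensor_of_faithfullyFlat R).comp (TensorProduct.comm A R E).injective)
  let y : R ⊗[A] E := ∑ p ∈ P.attach, (p.1.1 : R) ⊗ₜ (⟨p.1.2, hTE _ (Finset.mem_image_of_mem _ p.2)⟩ : E)
  have hy : g y = f x := by
    rw [map_sum, hP]
    refine Eq.trans (Finset.sum_congr rfl fun p _ => ?_) (Finset.sum_attach P fun p : R × S => p.1 ⊗ₜ[A] p.2)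
    simp [g]
  obtain ⟨n, hn⟩ := hx
  have hy0 : y = 0 := IsNilpotent.eq_zero (⟨n, hg (by rw [map_pow, hy, ← map_pow, hn, map_zero, map_zero])⟩ : IsNilpotent y)
  rw [← hy, hy0, map_zero]

end Groth.Agent.NormSemi5
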